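import Mathlib

/-!
# Normal forms in a group of order 625 (helper6)

`a c d` commute, `a^5 = b^5 = c^5 = d^5 = 1`, `a b = c b a`, `b c = c b`, `b d = a^4 c^2 d b`:
the elements `E a c d i k l = a^i c^k d^l`, `i k l : ZMod 5`, and `N i k l j = a^i c^k d^l b^j`.
-/

set_option autoImplicit false

namespace Cfsg.Agent.CpAutCoOneFive.Nf

open Subgroup

variable {G : Type*} [Group G]

/-- powers with exponent in `ZMod 5` -/
def pw (x : G) (i : ZMod 5) : G := x ^ i.val

theorem pw_nat {x : G} (hx : x ^ 5 = 1) (n : ℕ) : x ^ n = pw x (n : ZMod 5) := by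
  unfold pw
  rw [ZMod.val_natCast, pow_eq_pow_mod n hx]

theorem pw_add {x : G} (hx : x ^ 5 = 1) (i j : ZMod 5) : pw x (i + j) = pw x i * pw x j := by
  unfold pw
  rw [ZMod.val_add, ← pow_eq_pow_mod _ hx, pow_add]

theorem pw_zero (x : G) : pw x 0 = 1 := by
  unfold pw
  rw [ZMod.val_zero, pow_zero]

theorem pw_one (x : G) : pw x 1 = x := by
  unfold pw
  exact pow_one x

theorem pw_mul {x : G} (hx : x ^ 5 = 1) (i j : ZMod 5) : pw x (i * j) = pw (pw x i) j := by
  unfold pw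
  rw [ZMod.val_mul, ← pow_eq_pow_mod _ hx, pow_mul]

theorem pw_comm {x y : G} (h : x * y = y * x) (i j : ZMod 5) : pw x i * pw y j = pw y j * pw x i :=
  ((show Commute x y from h).pow_pow i.val j.val).eq

section three

/-- the hypotheses on `a c d` -/
structure Tri (a c d : G) : Prop where
  ha : a ^ 5 = 1
  hc : c ^ 5 = 1
  hd : d ^ 5 = 1
  ac : a * c = c * a
  da : d * a = a * d
  dc : d * c = c * d

variable {a c d : G}

/-- `a^i c^k d^l` -/
def E (a c d : G) (i k l : ZMod 5) : G := pw a i * pw c k * pw d l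

theorem E_mul (h : Tri a c d) (i k l i' k' l' : ZMod 5) :
    E a c d i k l * E a c d i' k' l' = E a c d (i + i') (k + k') (l + l') := by
  unfold E
  rw [pw_add h.ha, pw_add h.hc, pw_add h.hd]
  have h1 := pw_comm h.ac i' k
  have h2 := pw_comm h.da l i'
  have h3 := pw_comm h.dc l k'
  calc pw a i * pw c k * pw d l * (pw a i' * pw c k' * pw d l')
      = pw a i * pw c k * (pw d l * pw a i') * pw c k' * pw d l' := by simp only [mul_assoc]
    _ = pw a i * (pw c k * pw a i') * (pw d l * pw c k') * pw d l' := by rw [h2]; simp only [mul_assoc]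
    _ = pw a i * pw a i' * (pw c k * pw c k') * (pw d l * pw d l') := by rw [h3, ← h1]; simp only [mul_assoc]

theorem E_zero : E a c d 0 0 0 = 1 := by
  unfold E
  rw [pw_zero, pw_zero, pw_zero, mul_one, mul_one]

theorem E_inv (h : Tri a c d) (i k l : ZMod 5) : (E a c d i k l)⁻¹ = E a c d (-i) (-k) (-l) := by
  rw [inv_eq_iff_mul_eq_one, E_mul h, add_neg_cancel, add_neg_cancel, add_neg_cancel, E_zero]

theorem E_pow (h : Tri a c d) (i k l : ZMod 5) (n : ℕ) :
    E a c d i k l ^ n = E a c d (n * i) (n * k) (n * l) := by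
  induction n with
  | zero => simp [E_zero]
  | succ n ih =>
    rw [pow_succ, ih, E_mul h]
    push_cast
    congr 1 <;> ring

theorem E_pow5 (h : Tri a c d) (i k l : ZMod 5) : E a c d i k l ^ 5 = 1 := by
  rw [E_pow h]
  have : ((5 : ℕ) : ZMod 5) = 0 := by decide
  rw [this, zero_mul, zero_mul, zero_mul, E_zero]

theorem E_a (a c d : G) : E a c d 1 0 0 = a := by
  unfold E
  rw [pw_one, pw_zero, pw_zero, mul_one, mul_one]

theorem E_c (a c d : G) : E a c d 0 1 0 = c := by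
  unfold E
  rw [pw_one, pw_zero, pw_zero, one_mul, mul_one]

theorem E_d (a c d : G) : E a c d 0 0 1 = d := by
  unfold E
  rw [pw_one, pw_zero, pw_zero, one_mul, one_mul]

theorem E_acd (h : Tri a c d) (i k l : ℕ) : a ^ i * c ^ k * d ^ l = E a c d i k l := by
  unfold E
  rw [← pw_nat h.ha, ← pw_nat h.hc, ← pw_nat h.hd]

/-- the group `⟨a, c, d⟩` -/
def T3 (h : Tri a c d) : Subgroup G where
  carrier := {x | ∃ i k l, x = E a c d i k l}
  mul_mem' := by
    rintro _ _ ⟨i, k, l, rfl⟩ ⟨i', k', l', rfl⟩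
    exact ⟨_, _, _, E_mul h i k l i' k' l'⟩
  one_mem' := ⟨0, 0, 0, E_zero.symm⟩
  inv_mem' := by
    rintro _ ⟨i, k, l, rfl⟩
    exact ⟨_, _, _, E_inv h i k l⟩

theorem mem_T3 (h : Tri a c d) {x : G} : x ∈ T3 h ↔ ∃ i k l, x = E a c d i k l := Iff.rfl

theorem E_mem (h : Tri a c d) (i k l : ZMod 5) : E a c d i k l ∈ T3 h := ⟨i, k, l, rfl⟩

theorem T3_comm (h : Tri a c d) : ∀ x ∈ T3 h, ∀ y ∈ T3 h, x * y = y * x := by
  rintro _ ⟨i, k, l, rfl⟩ _ ⟨i', k', l', rfl⟩
  rw [E_mul h, E_mul h, add_comm i, add_comm k, add_comm l]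

theorem T3_isPGroup (h : Tri a c d) : IsPGroup 5 ↥(T3 h) := by
  rintro ⟨_, i, k, l, rfl⟩
  exact ⟨1, Subtype.ext (by
    change (E a c d i k l) ^ 5 ^ 1 = 1
    rw [pow_one, E_pow5 h])⟩

/-- independence -/
def Indep (a c d : G) : Prop := ∀ i k l : ZMod 5, E a c d i k l = 1 → i = 0 ∧ k = 0 ∧ l = 0

theorem E_inj (h : Tri a c d) (hI : Indep a c d) {i k l i' k' l' : ZMod 5}
    (he : E a c d i k l = E a c d i' k' l') : i = i' ∧ k = k' ∧ l = l' := by
  have h1 : E a c d (i - i') (k - k') (l - l') = 1 := by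
    rw [sub_eq_add_neg, sub_eq_add_neg, sub_eq_add_neg, ← E_mul h, ← E_inv h, he, mul_inv_cancel]
  obtain ⟨h2, h3, h4⟩ := hI _ _ _ h1
  exact ⟨sub_eq_zero.1 h2, sub_eq_zero.1 h3, sub_eq_zero.1 h4⟩

theorem card_T3 (h : Tri a c d) (hI : Indep a c d) : Nat.card ↥(T3 h) = 125 := by
  let f : ZMod 5 × ZMod 5 × ZMod 5 → ↥(T3 h) := fun x => ⟨E a c d x.1 x.2.1 x.2.2, E_mem h _ _ _⟩
  have hf : Function.Bijective f := by
    constructor
    · rintro ⟨i, k, l⟩ ⟨i', k', l'⟩ he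
      obtain ⟨h1, h2, h3⟩ := E_inj h hI (congrArg Subtype.val he)
      simp only at h1 h2 h3
      rw [h1, h2, h3]
    · rintro ⟨_, i, k, l, rfl⟩
      exact ⟨(i, k, l), rfl⟩
  rw [← Nat.card_congr (Equiv.ofBijective f hf)]
  simp [Nat.card_eq_fintype_card]

/-- conjugation acts by a matrix -/
theorem conj_E (h : Tri a c d) {w : G} {v1 v2 v3 : ZMod 5 × ZMod 5 × ZMod 5}
    (h1 : w * a * w⁻¹ = E a c d v1.1 v1.2.1 v1.2.2) (h2 : w * c * w⁻¹ = E a c d v2.1 v2.2.1 v2.2.2)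
    (h3 : w * d * w⁻¹ = E a c d v3.1 v3.2.1 v3.2.2) (i k l : ZMod 5) :
    w * E a c d i k l * w⁻¹ = E a c d (i * v1.1 + k * v2.1 + l * v3.1) (i * v1.2.1 + k * v2.2.1 + l * v3.2.1)
      (i * v1.2.2 + k * v2.2.2 + l * v3.2.2) := by
  have h4 : ∀ x : G, ∀ n : ZMod 5, w * pw x n * w⁻¹ = pw (w * x * w⁻¹) n := by
    intro x n
    unfold pw
    exact (conj_pow).symm
  have h5 : w * E a c d i k l * w⁻¹ = (w * pw a i * w⁻¹) * (w * pw c k * w⁻¹) * (w * pw d l * w⁻¹) := by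
    unfold E
    group
  have h6 : ∀ (v : ZMod 5 × ZMod 5 × ZMod 5) (n : ZMod 5), pw (E a c d v.1 v.2.1 v.2.2) n =
      E a c d (n * v.1) (n * v.2.1) (n * v.2.2) := by
    intro v n
    unfold pw
    rw [E_pow h, ZMod.natCast_val, ZMod.cast_id', id]
  rw [h5, h4, h4, h4, h1, h2, h3, h6, h6, h6, E_mul h, E_mul h]

theorem conj_mem (h : Tri a c d) {w : G} (h1 : w * a * w⁻¹ ∈ T3 h) (h2 : w * c * w⁻¹ ∈ T3 h)
    (h3 : w * d * w⁻¹ ∈ T3 h) : ∀ x ∈ T3 h, w * x * w⁻¹ ∈ T3 h := by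
  rintro _ ⟨i, k, l, rfl⟩
  obtain ⟨x1, x2, x3, h1⟩ := h1
  obtain ⟨y1, y2, y3, h2⟩ := h2
  obtain ⟨z1, z2, z3, h3⟩ := h3
  rw [conj_E h (v1 := (x1, x2, x3)) (v2 := (y1, y2, y3)) (v3 := (z1, z2, z3)) h1 h2 h3]
  exact E_mem h _ _ _

theorem mem_zpowers_E (h : Tri a c d) {x : G} {i k l : ZMod 5} (hx : x ∈ zpowers (E a c d i k l)) :
    ∃ m : ZMod 5, x = E a c d (m * i) (m * k) (m * l) := by
  obtain ⟨n, rfl⟩ := hx
  refine ⟨(n : ZMod 5), ?_⟩
  obtain ⟨m, hm⟩ : ∃ m : ℕ, (m : ℤ) = n % 5 := ⟨(n % 5).toNat, by omega⟩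
  have h1 : E a c d i k l ^ n = E a c d i k l ^ m := by
    have h2 : n = 5 * (n / 5) + n % 5 := (Int.mul_ediv_add_emod n 5).symm
    rw [h2, ← hm, zpow_add, zpow_mul, zpow_ofNat, E_pow5 h, one_zpow, one_mul, zpow_natCast]
  have h3 : (n : ZMod 5) = (m : ZMod 5) := by
    have h2 : n = 5 * (n / 5) + n % 5 := (Int.mul_ediv_add_emod n 5).symm
    rw [h2, ← hm]
    push_cast
    have : (5 : ZMod 5) = 0 := by decide
    rw [this, zero_mul, zero_add]
  change E a c d i k l ^ n = _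
  rw [h1, E_pow h, h3]

end three

section four

/-- the hypotheses on `a b c d` -/
structure Quad (a b c d : G) : Prop extends Tri a c d where
  hb : b ^ 5 = 1
  ab : a * b = c * b * a
  bc : b * c = c * b
  bd : b * d = a ^ 4 * c ^ 2 * d * b

variable {a b c d : G}

theorem conj_b (h : Quad a b c d) (i k l : ZMod 5) :
    b * E a c d i k l * b⁻¹ = E a c d (i + 4 * l) (k - i + 2 * l) l := by
  have h1 : b * a * b⁻¹ = E a c d 1 4 0 := by
    have h2 : b * a = c⁻¹ * (a * b) := by rw [h.ab]; group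
    have h3 : c⁻¹ = E a c d 0 4 0 := by
      have : c⁻¹ = (E a c d 0 1 0)⁻¹ := by rw [E_c]
      rw [this, E_inv h.toTri]
      congr 1
    rw [h2, h3]
    have h4 : E a c d 0 4 0 * (a * b) * b⁻¹ = E a c d 0 4 0 * E a c d 1 0 0 := by rw [E_a]; group
    rw [h4, E_mul h.toTri]
    congr 1
  have h2 : b * c * b⁻¹ = E a c d 0 1 0 := by rw [h.bc, mul_inv_cancel_right, E_c]
  have h3 : b * d * b⁻¹ = E a c d 4 2 1 := by
    rw [h.bd, mul_inv_cancel_right]
    have := E_acd h.toTri 4 2 1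
    rw [pow_one] at this
    rw [this]
    rfl
  rw [conj_E h.toTri (v1 := (1, 4, 0)) (v2 := (0, 1, 0)) (v3 := (4, 2, 1)) h1 h2 h3]
  have h5 : (4 : ZMod 5) = -1 := by decide
  congr 1
  · simp only [h5]; ring
  · simp only [h5]; ring
  · ring

/-- `a^i c^k d^l b^j` -/
def N (a b c d : G) (i k l j : ZMod 5) : G := E a c d i k l * pw b j

/-- conjugation by `b` -/
theorem moveB (h : Quad a b c d) (i k l j : ZMod 5) :
    b * N a b c d i k l j * b⁻¹ = N a b c d (i + 4 * l) (k - i + 2 * l) l j := by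
  unfold N
  rw [← conj_b h]
  have h1 : b * pw b j = pw b j * b := by
    have := pw_comm (rfl : b * b = b * b) 1 j
    rwa [pw_one] at this
  calc b * (E a c d i k l * pw b j) * b⁻¹ = b * E a c d i k l * b⁻¹ * (b * pw b j) * b⁻¹ := by group
    _ = b * E a c d i k l * b⁻¹ * pw b j := by rw [h1]; group

theorem a_pwb (h : Quad a b c d) (j : ZMod 5) : a * pw b j * a⁻¹ = E a c d 0 j 0 * pw b j := by
  unfold pw
  rw [← conj_pow]
  have h1 : a * b * a⁻¹ = c * b := by rw [h.ab, mul_inv_cancel_right]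
  have h2 : Commute c b := h.bc.symm
  rw [h1, h2.mul_pow]
  congr 1
  unfold E
  rw [pw_zero, pw_zero, one_mul, mul_one]
  rfl

/-- conjugation by `a` -/
theorem moveA (h : Quad a b c d) (i k l j : ZMod 5) :
    a * N a b c d i k l j * a⁻¹ = N a b c d i (k + j) l j := by
  unfold N
  have h1 : a * E a c d i k l = E a c d i k l * a := by
    have h2 := T3_comm h.toTri a ⟨1, 0, 0, (E_a a c d).symm⟩ _ (E_mem h.toTri i k l)
    exact h2
  calc a * (E a c d i k l * pw b j) * a⁻¹ = a * E a c d i k l * a⁻¹ * (a * pw b j * a⁻¹) := by group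
    _ = E a c d i k l * (E a c d 0 j 0 * pw b j) := by rw [h1, mul_inv_cancel_right, a_pwb h]
    _ = E a c d i (k + j) l * pw b j := by
      rw [← mul_assoc, E_mul h.toTri, add_zero, add_zero]

theorem conj_db (h : Quad a b c d) : d * b * d⁻¹ = E a c d 1 3 0 * b := by
  have h1 : b * d = E a c d 4 2 0 * (d * b) := by
    rw [h.bd]
    have h2 : a ^ 4 * c ^ 2 * d = E a c d 4 2 0 * d := by
      have h3 := E_acd h.toTri 4 2 0
      rw [pow_zero, mul_one] at h3
      rw [h3]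
      rfl
    rw [h2, mul_assoc]
  have h4 : d * b = E a c d 1 3 0 * (b * d) := by
    rw [h1, ← mul_assoc, E_mul h.toTri]
    have h5 : E a c d (1 + 4) (3 + 2) (0 + 0) = 1 := by
      have : (1 : ZMod 5) + 4 = 0 := by decide
      rw [this]
      have : (3 : ZMod 5) + 2 = 0 := by decide
      rw [this, add_zero, E_zero]
    rw [h5, one_mul]
  rw [h4, mul_assoc, mul_inv_cancel_right]

theorem d_pwb (h : Quad a b c d) (n : ℕ) : ∃ k, d * b ^ n * d⁻¹ = E a c d n k 0 * b ^ n := by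
  induction n with
  | zero => exact ⟨0, by rw [pow_zero, Nat.cast_zero, E_zero]; group⟩
  | succ n ih =>
    obtain ⟨k, hk⟩ := ih
    have h1 : d * b ^ (n + 1) * d⁻¹ = (d * b * d⁻¹) * (d * b ^ n * d⁻¹) := by
      rw [pow_succ']; group
    rw [h1, conj_db h, hk]
    have h2 : b * E a c d n k 0 = E a c d (n + 4 * 0) (k - n + 2 * 0) 0 * b := by
      rw [← conj_b h]; group
    refine ⟨3 + (k - n + 2 * 0), ?_⟩
    calc E a c d 1 3 0 * b * (E a c d n k 0 * b ^ n) = E a c d 1 3 0 * (b * E a c d n k 0) * b ^ n := by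
          simp only [mul_assoc]
      _ = E a c d 1 3 0 * E a c d (n + 4 * 0) (k - n + 2 * 0) 0 * (b * b ^ n) := by
          rw [h2]; simp only [mul_assoc]
      _ = _ := by
          rw [E_mul h.toTri, ← pow_succ']
          congr 2
          push_cast
          ring

/-- conjugation by `d` -/
theorem moveD (h : Quad a b c d) (i k l j : ZMod 5) :
    ∃ k', d * N a b c d i k l j * d⁻¹ = N a b c d (i + j) k' l j := by
  obtain ⟨k1, hk⟩ := d_pwb h j.val
  refine ⟨k + k1, ?_⟩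
  unfold N
  have h1 : d * E a c d i k l = E a c d i k l * d := by
    have h2 := T3_comm h.toTri d ⟨0, 0, 1, (E_d a c d).symm⟩ _ (E_mem h.toTri i k l)
    exact h2
  have h3 : pw b j = b ^ j.val := rfl
  calc d * (E a c d i k l * pw b j) * d⁻¹ = d * E a c d i k l * d⁻¹ * (d * pw b j * d⁻¹) := by group
    _ = E a c d i k l * (E a c d (j.val : ZMod 5) k1 0 * pw b j) := by
      rw [h1, mul_inv_cancel_right, h3, hk]
    _ = E a c d (i + j) (k + k1) l * pw b j := by
      rw [← mul_assoc, E_mul h.toTri, add_zero, ZMod.natCast_val, ZMod.cast_id', id]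

/-! ### Iterated moves -/

/-- conjugacy -/
def Cj (x y : G) : Prop := ∃ w : G, w * x * w⁻¹ = y

theorem Cj.refl (x : G) : Cj x x := ⟨1, by group⟩

theorem Cj.trans {x y z : G} (h1 : Cj x y) (h2 : Cj y z) : Cj x z := by
  obtain ⟨u, rfl⟩ := h1
  obtain ⟨v, rfl⟩ := h2
  exact ⟨v * u, by group⟩

theorem Cj.symm {x y : G} (h1 : Cj x y) : Cj y x := by
  obtain ⟨u, rfl⟩ := h1
  exact ⟨u⁻¹, by group⟩

theorem iterB (h : Quad a b c d) (i k l j : ZMod 5) (n : ℕ) :
    ∃ k', Cj (N a b c d i k l j) (N a b c d (i + n * (4 * l)) k' l j) := by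
  induction n with
  | zero => exact ⟨k, by rw [Nat.cast_zero, zero_mul, add_zero]; exact Cj.refl _⟩
  | succ n ih =>
    obtain ⟨k', hk⟩ := ih
    refine ⟨k' - (i + n * (4 * l)) + 2 * l, hk.trans ⟨b, ?_⟩⟩
    rw [moveB h]
    congr 1
    push_cast
    ring

theorem iterA (h : Quad a b c d) (i k l j : ZMod 5) (n : ℕ) :
    Cj (N a b c d i k l j) (N a b c d i (k + n * j) l j) := by
  induction n with
  | zero => rw [Nat.cast_zero, zero_mul, add_zero]; exact Cj.refl _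
  | succ n ih =>
    refine ih.trans ⟨a, ?_⟩
    rw [moveA h]
    congr 1
    push_cast
    ring

theorem iterD (h : Quad a b c d) (i k l j : ZMod 5) (n : ℕ) :
    ∃ k', Cj (N a b c d i k l j) (N a b c d (i + n * j) k' l j) := by
  induction n with
  | zero => exact ⟨k, by rw [Nat.cast_zero, zero_mul, add_zero]; exact Cj.refl _⟩
  | succ n ih =>
    obtain ⟨k', hk⟩ := ih
    obtain ⟨k2, hk2⟩ := moveD h (i + n * j) k' l j
    refine ⟨k2, hk.trans ⟨d, ?_⟩⟩
    rw [hk2]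
    congr 1
    push_cast
    ring

theorem exists_n (i l : ZMod 5) (hl : l ≠ 0) : ∃ n : ℕ, i + n * l = 0 := by
  have h : ∀ i l : ZMod 5, l ≠ 0 → ∃ n ∈ List.range 5, i + (n : ZMod 5) * l = 0 := by decide
  obtain ⟨n, -, hn⟩ := h i l hl
  exact ⟨n, hn⟩

/-- `l ≠ 0` -/
theorem red_l (h : Quad a b c d) {i k l j : ZMod 5} (hl : l ≠ 0) :
    (j = 0 ∧ ∃ k', Cj (N a b c d i k l j) (E a c d 0 k' l)) ∨
      (j ≠ 0 ∧ Cj (N a b c d i k l j) (N a b c d 0 0 l j)) := by
  have h4 : (4 : ZMod 5) * l ≠ 0 := by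
    have : ∀ l : ZMod 5, l ≠ 0 → 4 * l ≠ 0 := by decide
    exact this l hl
  obtain ⟨n, hn⟩ := exists_n i (4 * l) h4
  obtain ⟨k', hk⟩ := iterB h i k l j n
  rw [hn] at hk
  by_cases hj : j = 0
  · refine Or.inl ⟨hj, k', ?_⟩
    have h5 : N a b c d 0 k' l j = E a c d 0 k' l := by
      unfold N
      rw [hj, pw_zero, mul_one]
    rwa [h5] at hk
  · refine Or.inr ⟨hj, hk.trans ?_⟩
    obtain ⟨m, hm⟩ := exists_n k' j hj
    have h6 := iterA h 0 k' l j m
    rwa [hm] at h6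

/-- `l = 0` -/
theorem red_zero (h : Quad a b c d) (i k j : ZMod 5) :
    (∃ k', N a b c d i k 0 j = pw c k') ∨ Cj (N a b c d i k 0 j) (pw a i) ∨
      Cj (N a b c d i k 0 j) (pw b j) := by
  by_cases hj : j = 0
  · by_cases hi : i = 0
    · left
      refine ⟨k, ?_⟩
      unfold N E
      rw [hj, hi, pw_zero, pw_zero, pw_zero, one_mul, mul_one, mul_one]
    · right; left
      have key : ∀ n : ℕ, Cj (N a b c d i k 0 0) (N a b c d i (k + n * (-i)) 0 0) := by
        intro n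
        induction n with
        | zero => rw [Nat.cast_zero, zero_mul, add_zero]; exact Cj.refl _
        | succ n ih =>
          refine ih.trans ⟨b, ?_⟩
          rw [moveB h]
          congr 1
          · ring
          · push_cast; ring
      obtain ⟨n, hn⟩ := exists_n k (-i) (neg_ne_zero.2 hi)
      have h1 := key n
      rw [hn] at h1
      have h2 : N a b c d i 0 0 0 = pw a i := by
        unfold N E
        rw [pw_zero, pw_zero, pw_zero, mul_one, mul_one, mul_one]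
      rw [hj]
      rwa [h2] at h1
  · right; right
    obtain ⟨n, hn⟩ := exists_n i j hj
    obtain ⟨k', hk⟩ := iterD h i k 0 j n
    rw [hn] at hk
    obtain ⟨m, hm⟩ := exists_n k' j hj
    have h6 := iterA h 0 k' 0 j m
    rw [hm] at h6
    have h2 : N a b c d 0 0 0 j = pw b j := by
      unfold N
      rw [E_zero, one_mul]
    rw [h2] at h6
    exact hk.trans h6

/-! ### The group -/

theorem N_mul (h : Quad a b c d) (i k l j i' k' l' j' : ZMod 5) :
    ∃ i'' k'', N a b c d i k l j * N a b c d i' k' l' j' = N a b c d i'' k'' (l + l') (j + j') := by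
  have key : ∀ n : ℕ, ∃ i'' k'', b ^ n * E a c d i' k' l' * (b ^ n)⁻¹ = E a c d i'' k'' l' := by
    intro n
    induction n with
    | zero => exact ⟨i', k', by group⟩
    | succ n ih =>
      obtain ⟨i1, k1, h1⟩ := ih
      refine ⟨i1 + 4 * l', k1 - i1 + 2 * l', ?_⟩
      rw [← conj_b h, ← h1, pow_succ']
      group
  obtain ⟨i1, k1, h1⟩ := key j.val
  refine ⟨i + i1, k + k1, ?_⟩
  unfold N
  have h2 : pw b j = b ^ j.val := rfl
  rw [← E_mul h.toTri, ← h1, pw_add h.hb, h2]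
  group

/-- the subgroup of the `a^i c^k b^j` -/
def P3 (h : Quad a b c d) : Subgroup G where
  carrier := {x | ∃ i k j, x = N a b c d i k 0 j}
  mul_mem' := by
    rintro _ _ ⟨i, k, j, rfl⟩ ⟨i', k', j', rfl⟩
    obtain ⟨i'', k'', h1⟩ := N_mul h i k 0 j i' k' 0 j'
    rw [add_zero] at h1
    exact ⟨_, _, _, h1⟩
  one_mem' := ⟨0, 0, 0, by unfold N; rw [E_zero, pw_zero, mul_one]⟩
  inv_mem' := by
    rintro _ ⟨i, k, j, rfl⟩
    obtain ⟨i', k', h1⟩ := N_mul h 0 0 0 (-j) (-i) (-k) 0 0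
    refine ⟨i', k', -j, ?_⟩
    rw [add_zero, add_zero] at h1
    rw [← h1]
    unfold N
    rw [E_zero, one_mul, pw_zero, mul_one, mul_inv_rev, E_inv h.toTri, neg_zero]
    congr 1
    rw [inv_eq_iff_mul_eq_one, ← pw_add h.hb, add_neg_cancel, pw_zero]

/-- the subgroup of the `a^i c^k d^l b^j` -/
def P4 (h : Quad a b c d) : Subgroup G where
  carrier := {x | ∃ i k l j, x = N a b c d i k l j}
  mul_mem' := by
    rintro _ _ ⟨i, k, l, j, rfl⟩ ⟨i', k', l', j', rfl⟩
    obtain ⟨i'', k'', h1⟩ := N_mul h i k l j i' k' l' j'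
    exact ⟨_, _, _, _, h1⟩
  one_mem' := ⟨0, 0, 0, 0, by unfold N; rw [E_zero, pw_zero, mul_one]⟩
  inv_mem' := by
    rintro _ ⟨i, k, l, j, rfl⟩
    obtain ⟨i', k', h1⟩ := N_mul h 0 0 0 (-j) (-i) (-k) (-l) 0
    refine ⟨i', k', -l, -j, ?_⟩
    rw [add_zero, zero_add] at h1
    rw [← h1]
    unfold N
    rw [E_zero, one_mul, pw_zero, mul_one, mul_inv_rev, E_inv h.toTri]
    congr 1
    rw [inv_eq_iff_mul_eq_one, ← pw_add h.hb, add_neg_cancel, pw_zero]

end four

end Cfsg.Agent.CpAutCoOneFive.Nf
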