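import Cfsg.Agent.CpAutCoOneFive.Fac
import Cfsg.Agent.CpAutCoOneFive.Nf
import Cfsg.Agent.CpAutCoOneFive.Abs
import Cfsg.Agent.CpAutBig.SevenFix

/-!
# The elements of order five of `Co0` (helper6)

`cases` : an element of order five is conjugate to an element of `⟨a⟩`, `⟨c⟩` or `⟨d⟩`.
-/

set_option autoImplicit false

namespace Cfsg.Agent.CpAutCoOneFive.Cls

open Cfsg Subgroup Cfsg.Agent.SporadicStructure.Co0Base
open Cfsg.Agent.SporadicStructure.Co0Matrix Cfsg.Agent.CoOneType.CoEval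
open Cfsg.Agent.CpAutCoOneFive.Mat Cfsg.Agent.CpAutCoOneFive.Elem Cfsg.Agent.CpAutCoOneFive.Nf
open Cfsg.Agent.CpAutBig
open scoped Pointwise

theorem five : Nat.Prime 5 := by norm_num

theorem tri : Tri a c d := ⟨a_pow, c_pow, d_pow, ac, da, dc⟩

theorem quad : Quad a b c d := { tri with hb := b_pow, ab := ab, bc := bc, bd := bd }

/-! ### Common fixed vectors of `a` and `b` -/

/-- `a` and `b` fix a vector of norm 32 and one of norm 48. -/
theorem exists_ab (n : ℤ) (hn : n = 32 ∨ n = 48) :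
    ∃ v : leechLattice, sqNorm (v : GolayPt → ℤ) = n ∧ a • v = v ∧ b • v = v := by
  rcases hn with rfl | rfl
  · obtain ⟨hv, h1, h2⟩ := exists_fixed fix32a
    obtain ⟨_, -, h3⟩ := exists_fixed fix32b
    refine ⟨⟨vec l32, hv⟩, h1, ?_, ?_⟩
    · simp only [List.map_cons, List.map_nil, List.prod_cons, List.prod_nil, mul_one] at h2
      exact h2
    · simp only [List.map_cons, List.map_nil, List.prod_cons, List.prod_nil, mul_one] at h3
      exact h3
  · obtain ⟨hv, h1, h2⟩ := exists_fixed fix48a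
    obtain ⟨_, -, h3⟩ := exists_fixed fix48b
    refine ⟨⟨vec l48, hv⟩, h1, ?_, ?_⟩
    · simp only [List.map_cons, List.map_nil, List.prod_cons, List.prod_nil, mul_one] at h2
      exact h2
    · simp only [List.map_cons, List.map_nil, List.prod_cons, List.prod_nil, mul_one] at h3
      exact h3

theorem fix_inv {x : Co0} {v : leechLattice} (h : x • v = v) : x⁻¹ • v = v := by
  rw [inv_smul_eq_iff, h]

theorem fix_c {v : leechLattice} (ha : a • v = v) (hb : b • v = v) : c • v = v := by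
  change (a * b * a⁻¹ * b⁻¹) • v = v
  rw [mul_smul, mul_smul, mul_smul, fix_inv hb, fix_inv ha, hb, ha]

theorem fix_pow {x : Co0} {v : leechLattice} (h : x • v = v) (n : ℕ) : x ^ n • v = v := by
  induction n with
  | zero => rw [pow_zero, one_smul]
  | succ n ih => rw [pow_succ, mul_smul, h, ih]

/-- `a^i c^k b^j` fixes the common fixed vectors of `a` and `b` -/
theorem fix_N {v : leechLattice} (ha : a • v = v) (hb : b • v = v) (i k j : ZMod 5) : N a b c d i k 0 j • v = v := by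
  unfold N E pw
  rw [ZMod.val_zero, pow_zero, mul_one, mul_smul, mul_smul, fix_pow hb, fix_pow (fix_c ha hb), fix_pow ha]

/-! ### Independence -/

theorem indep : Indep a c d := by
  intro i k l he
  obtain ⟨v, hn, ha, hb⟩ := exists_ab 32 (Or.inl rfl)
  have hv := ne_zero_of_norm hn (by norm_num)
  have hl : l = 0 := by
    by_contra hl
    apply hv
    have h1 : pw d l • v = v := by
      have h2 : (E a c d i k l) • v = v := by rw [he, one_smul]
      unfold E at h2
      rw [mul_smul, mul_smul] at h2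
      have h3 : pw a i • pw c k • v = v := by
        unfold pw
        rw [fix_pow (fix_c ha hb), fix_pow ha]
      have h4 : pw a i • pw c k • pw d l • v = pw d l • v := by
        have e1 : pw a i * pw c k * pw d l = pw d l * (pw a i * pw c k) := by
          have h5 := pw_comm da l i
          have h6 := pw_comm dc l k
          rw [← mul_assoc, h5, mul_assoc, mul_assoc, ← h6]
        have e2 := congrArg (fun g : Co0 => g • v) e1
        simp only [mul_smul] at e2
        rw [e2, h3]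
      rw [h4] at h2
      exact h2
    obtain ⟨m, hm⟩ : ∃ m : ZMod 5, l * m = 1 := by
      have : ∀ l : ZMod 5, l ≠ 0 → ∃ m : ZMod 5, l * m = 1 := by decide
      exact this l hl
    apply Fac.free_d
    have h2 : d = pw (pw d l) m := by rw [← pw_mul d_pow, hm, pw_one]
    rw [h2]
    unfold pw
    exact fix_pow h1 _
  rw [hl] at he
  unfold E at he
  rw [pw_zero, mul_one] at he
  have hi : i = 0 := by
    by_contra hi
    obtain ⟨m, hm⟩ : ∃ m : ZMod 5, i * m = 1 := by
      have : ∀ l : ZMod 5, l ≠ 0 → ∃ m : ZMod 5, l * m = 1 := by decide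
      exact this i hi
    have h1 : pw a i = (pw c k)⁻¹ := eq_inv_of_mul_eq_one_left he
    have h2 : Commute b (pw a i) := by
      rw [h1]
      unfold pw
      exact ((show Commute b c from bc).pow_right _).inv_right
    have h3 : Commute b a := by
      have h4 : a = pw (pw a i) m := by rw [← pw_mul a_pow, hm, pw_one]
      rw [h4]
      unfold pw
      exact h2.pow_right _
    apply c_ne
    change a * b * a⁻¹ * b⁻¹ = 1
    rw [← h3.eq]
    group
  rw [hi, pw_zero, one_mul] at he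
  refine ⟨hi, ?_, hl⟩
  by_contra hk
  obtain ⟨m, hm⟩ : ∃ m : ZMod 5, k * m = 1 := by
    have : ∀ l : ZMod 5, l ≠ 0 → ∃ m : ZMod 5, l * m = 1 := by decide
    exact this k hk
  apply c_ne
  have h4 : c = pw (pw c k) m := by rw [← pw_mul c_pow, hm, pw_one]
  rw [h4, he]
  unfold pw
  exact one_pow _

theorem E_ne {i k l : ZMod 5} (h : ¬ (i = 0 ∧ k = 0 ∧ l = 0)) : E a c d i k l ≠ 1 := fun h1 => h (indep i k l h1)

theorem orderOf_of {x : Co0} (h : x ^ 5 = 1) (h1 : x ≠ 1) : orderOf x = 5 := by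
  have : Fact (Nat.Prime 5) := ⟨five⟩
  exact orderOf_eq_prime h h1

theorem a_ne : a ≠ 1 := by
  have h := E_ne (i := 1) (k := 0) (l := 0) (by decide)
  rwa [E_a] at h

theorem d_ne : d ≠ 1 := by
  have h := E_ne (i := 0) (k := 0) (l := 1) (by decide)
  rwa [E_d] at h

theorem b_ne : b ≠ 1 := by
  intro h
  apply c_ne
  change a * b * a⁻¹ * b⁻¹ = 1
  rw [h]
  group

theorem orderOf_a : orderOf a = 5 := orderOf_of a_pow a_ne
theorem orderOf_b : orderOf b = 5 := orderOf_of b_pow b_ne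
theorem orderOf_c : orderOf c = 5 := orderOf_of c_pow c_ne
theorem orderOf_d : orderOf d = 5 := orderOf_of d_pow d_ne

theorem N_inj {i k l j : ZMod 5} (h : N a b c d i k l j = 1) : i = 0 ∧ k = 0 ∧ l = 0 ∧ j = 0 := by
  have hj : j = 0 := by
    by_contra hj
    obtain ⟨m, hm⟩ : ∃ m : ZMod 5, j * m = 1 := by
      have : ∀ l : ZMod 5, l ≠ 0 → ∃ m : ZMod 5, l * m = 1 := by decide
      exact this j hj
    unfold N at h
    have h1 : pw b j = (E a c d i k l)⁻¹ := eq_inv_of_mul_eq_one_right h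
    have h2 : Commute a (pw b j) := by
      rw [h1]
      exact (show Commute a (E a c d i k l) from
        T3_comm tri a ⟨1, 0, 0, (E_a a c d).symm⟩ _ (E_mem tri i k l)).inv_right
    have h3 : Commute a b := by
      have h4 : b = pw (pw b j) m := by rw [← pw_mul b_pow, hm, pw_one]
      rw [h4]
      unfold pw
      exact h2.pow_right _
    apply c_ne
    change a * b * a⁻¹ * b⁻¹ = 1
    rw [h3.eq]
    group
  unfold N at h
  rw [hj, pw_zero, mul_one] at h
  obtain ⟨h1, h2, h3⟩ := indep i k l h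
  exact ⟨h1, h2, h3, hj⟩

theorem N_injective : Function.Injective fun x : ZMod 5 × ZMod 5 × ZMod 5 × ZMod 5 =>
    N a b c d x.1 x.2.1 x.2.2.1 x.2.2.2 := by
  rintro ⟨i, k, l, j⟩ ⟨i', k', l', j'⟩ h
  simp only at h
  have h1 : N a b c d (i - i') (k - k') (l - l') 0 = pw b (j' - j) := by
    unfold N at h ⊢
    rw [pw_zero, mul_one, sub_eq_add_neg i, sub_eq_add_neg k, sub_eq_add_neg l, ← E_mul tri]
    have h2 : E a c d (-i') (-k') (-l') = (E a c d i' k' l')⁻¹ := (E_inv tri i' k' l').symm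
    rw [h2, T3_comm tri _ (E_mem tri i k l) _ ((T3 tri).inv_mem (E_mem tri i' k' l'))]
    have h3 : pw b (j' - j) = pw b j' * (pw b j)⁻¹ := by
      have h4 : (pw b j)⁻¹ = pw b (-j) := by rw [inv_eq_iff_mul_eq_one, ← pw_add b_pow, add_neg_cancel, pw_zero]
      rw [h4, ← pw_add b_pow, sub_eq_add_neg]
    rw [h3]
    calc (E a c d i' k' l')⁻¹ * E a c d i k l = (E a c d i' k' l')⁻¹ * (E a c d i k l * pw b j) * (pw b j)⁻¹ := by group
      _ = (E a c d i' k' l')⁻¹ * (E a c d i' k' l' * pw b j') * (pw b j)⁻¹ := by rw [h]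
      _ = pw b j' * (pw b j)⁻¹ := by group
  have h2 : N a b c d (i - i') (k - k') (l - l') (-(j' - j)) = 1 := by
    unfold N at h1 ⊢
    rw [pw_zero, mul_one] at h1
    rw [h1, ← pw_add b_pow, add_neg_cancel, pw_zero]
  obtain ⟨e1, e2, e3, e4⟩ := N_inj h2
  rw [neg_eq_zero] at e4
  rw [sub_eq_zero] at e1 e2 e3 e4
  rw [e1, e2, e3, e4]

/-! ### The Sylow subgroups -/

theorem card_P4 : Nat.card ↥(P4 quad) = 625 := by
  let f : ZMod 5 × ZMod 5 × ZMod 5 × ZMod 5 → ↥(P4 quad) := fun x => ⟨N a b c d x.1 x.2.1 x.2.2.1 x.2.2.2, _, _, _, _, rfl⟩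
  have hf : Function.Bijective f := by
    constructor
    · intro x y h
      exact N_injective (congrArg Subtype.val h)
    · rintro ⟨_, i, k, l, j, rfl⟩
      exact ⟨(i, k, l, j), rfl⟩
  rw [← Nat.card_congr (Equiv.ofBijective f hf)]
  simp [Nat.card_eq_fintype_card]

theorem card_P3 : Nat.card ↥(P3 quad) = 125 := by
  let f : ZMod 5 × ZMod 5 × ZMod 5 → ↥(P3 quad) := fun x => ⟨N a b c d x.1 x.2.1 0 x.2.2, _, _, _, rfl⟩
  have hf : Function.Bijective f := by
    constructor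
    · rintro ⟨i, k, j⟩ ⟨i', k', j'⟩ h
      have h1 := N_injective (a₁ := (i, k, 0, j)) (a₂ := (i', k', 0, j')) (congrArg Subtype.val h)
      simp only [Prod.mk.injEq] at h1
      rw [h1.1, h1.2.1, h1.2.2.2]
    · rintro ⟨_, i, k, j, rfl⟩
      exact ⟨(i, k, j), rfl⟩
  rw [← Nat.card_congr (Equiv.ofBijective f hf)]
  simp [Nat.card_eq_fintype_card]

theorem isPGroup_P4 : IsPGroup 5 ↥(P4 quad) := IsPGroup.of_card (n := 4) (by rw [card_P4]; norm_num)

theorem isPGroup_P3 : IsPGroup 5 ↥(P3 quad) := IsPGroup.of_card (n := 3) (by rw [card_P3]; norm_num)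

/-- elements of order `p` of a subgroup are conjugate into a Sylow subgroup -/
theorem conj_into {G : Type*} [Group G] [Finite G] {p : ℕ} (hp : p.Prime) {S Q : Subgroup G} (hQS : Q ≤ S)
    (hQ : IsPGroup p ↥Q) (hS : ¬ p * Nat.card ↥Q ∣ Nat.card ↥S) {x : G} (hx : x ^ p = 1) (hxS : x ∈ S) :
    ∃ w ∈ S, w * x * w⁻¹ ∈ Q := by
  have : Fact p.Prime := ⟨hp⟩
  have hc : Nat.card ↥(Q.subgroupOf S) = Nat.card ↥Q := Nat.card_congr (subgroupOfEquivOfLe hQS).toEquiv
  obtain ⟨T, hT⟩ := Abs.exists_sylow hp (E := Q.subgroupOf S) (hQ.of_equiv (subgroupOfEquivOfLe hQS).symm)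
    (by rw [hc]; exact hS)
  have h1 : IsPGroup p ↥(zpowers (⟨x, hxS⟩ : ↥S)) := by
    rintro ⟨y, hy⟩
    obtain ⟨n, rfl⟩ := mem_zpowers_iff.1 hy
    refine ⟨1, Subtype.ext ?_⟩
    change ((⟨x, hxS⟩ : ↥S) ^ n) ^ p ^ 1 = 1
    have h2 : (⟨x, hxS⟩ : ↥S) ^ p = 1 := Subtype.ext hx
    rw [pow_one, ← zpow_natCast, ← zpow_mul, mul_comm, zpow_mul, zpow_natCast, h2, one_zpow]
  obtain ⟨P, hP⟩ := h1.exists_le_sylow
  obtain ⟨g, hg⟩ := MulAction.exists_smul_eq ↥S P T
  refine ⟨g, g.2, ?_⟩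
  have h3 : (MulAut.conj g) (⟨x, hxS⟩ : ↥S) ∈ MulAut.conj g • (P : Subgroup ↥S) :=
    Subgroup.smul_mem_pointwise_smul (⟨x, hxS⟩ : ↥S) (MulAut.conj g) (P : Subgroup ↥S) (hP (mem_zpowers _))
  have h4 : MulAut.conj g • (P : Subgroup ↥S) = (T : Subgroup ↥S) := by
    rw [← hg]
    rfl
  rw [h4, hT, mem_subgroupOf] at h3
  exact h3

/-! ### Elements with fixed vectors -/

theorem zpowers_pw (x : Co0) (i : ZMod 5) : pw x i ∈ zpowers x := ⟨i.val, zpow_natCast _ _⟩

/-- an element of order five fixing a vector of norm 64 is conjugate to an element of `⟨a⟩` -/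
theorem conj_of_64 {x : Co0} (hx : orderOf x = 5) {v : leechLattice} (hv : sqNorm (v : GolayPt → ℤ) = 64)
    (hxv : x • v = v) : ∃ w : Co0, w * x * w⁻¹ ∈ zpowers a := by
  have hfin := CoZero.finite_co0
  let u : leechLattice := e8 (SporadicA.GolayBase.pt 6)
  have hu : sqNorm (u : GolayPt → ℤ) = 64 := FixCount.sqNorm_e8' _
  have hau : a • u = u := FixCount.fix_e8 isPerm_a (FivePerm.pi5_fix (Or.inl rfl))
  obtain ⟨g, hg⟩ := CoZero.exists_smul_eq (n := 64) (by norm_num) v u hv hu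
  have hS : ¬ 5 ^ 2 ∣ Nat.card ↥(MulAction.stabilizer Co0 u) := by
    intro hd
    have h1 := CoZero.card_stab_mul (n := 64) (by norm_num) u hu
    have h2 : 5 ^ 3 ∣ CoZero.cnt 64 := by
      unfold CoZero.cnt
      norm_num
    have h3 : 5 ^ 2 * 5 ^ 3 ∣ 8315553613086720000 := by
      rw [← h1]
      exact Nat.mul_dvd_mul hd h2
    norm_num at h3
  have hgx : orderOf (g * x * g⁻¹) = 5 := by
    rw [← MulAut.conj_apply, MulEquiv.orderOf_eq, hx]
  obtain ⟨k, -, hk⟩ := Small.conj_of_sylow five (MulAction.stabilizer Co0 u) hS hgx orderOf_a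
    (by
      rw [MulAction.mem_stabilizer_iff, ← hg, mul_smul, mul_smul, inv_smul_smul, hxv])
    (MulAction.mem_stabilizer_iff.2 hau)
  refine ⟨k * g, ?_⟩
  have h4 : k * g * x * (k * g)⁻¹ = k * (g * x * g⁻¹) * k⁻¹ := by group
  rw [h4]
  exact hk

/-- `b` is conjugate to an element of `⟨a⟩` -/
theorem conj_b_a : ∃ w : Co0, w * b * w⁻¹ ∈ zpowers a := by
  obtain ⟨hv, h1, h2⟩ := exists_fixed fix_b
  have h3 : b • (⟨vec lB, hv⟩ : leechLattice) = ⟨vec lB, hv⟩ := by
    simp only [List.map_cons, List.map_nil, List.prod_cons, List.prod_nil, mul_one] at h2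
    exact h2
  exact conj_of_64 orderOf_b h1 h3

/-- **Elements of order five with a fixed vector.** -/
theorem conj_of_fix {x : Co0} (hx : orderOf x = 5) {v : leechLattice} (hv : v ≠ 0) (hxv : x • v = v) :
    (∃ w : Co0, w * x * w⁻¹ ∈ zpowers a) ∨ (∃ w : Co0, w * x * w⁻¹ ∈ zpowers c) := by
  have hfin := CoZero.finite_co0
  have hx5 : x ^ 5 = 1 := by rw [← hx, pow_orderOf_eq_one]
  obtain ⟨u, hu, hn⟩ := CoZero.exists_short_fixed five (by norm_num) hx5 v hv hxv
  by_cases h64 : sqNorm (u : GolayPt → ℤ) = 64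
  · exact Or.inl (conj_of_64 hx h64 hu)
  obtain ⟨n, hun⟩ : ∃ n, n = sqNorm (u : GolayPt → ℤ) := ⟨_, rfl⟩
  have hn' : n = 32 ∨ n = 48 := by omega
  have hn3 : n = 32 ∨ n = 48 ∨ n = 64 := by omega
  obtain ⟨z, hz, haz, hbz⟩ := exists_ab n hn'
  obtain ⟨g, hg⟩ := CoZero.exists_smul_eq hn3 u z hun.symm hz
  have hQS : P3 quad ≤ MulAction.stabilizer Co0 z := by
    rintro _ ⟨i, k, j, rfl⟩
    exact MulAction.mem_stabilizer_iff.2 (fix_N haz hbz i k j)
  have hS : ¬ 5 * Nat.card ↥(P3 quad) ∣ Nat.card ↥(MulAction.stabilizer Co0 z) := by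
    rw [card_P3]
    intro hd
    have h1 := CoZero.card_stab_mul hn3 z hz
    have h2 : 5 ∣ CoZero.cnt n := by
      rcases hn' with rfl | rfl <;> unfold CoZero.cnt <;> norm_num
    have h3 : 5 * 125 * 5 ∣ 8315553613086720000 := by
      rw [← h1]
      exact Nat.mul_dvd_mul hd h2
    norm_num at h3
  obtain ⟨w, -, hw⟩ := conj_into five hQS isPGroup_P3 hS (x := g * x * g⁻¹)
    (by rw [conj_pow, hx5, mul_one, mul_inv_cancel])
    (by rw [MulAction.mem_stabilizer_iff, ← hg, mul_smul, mul_smul, inv_smul_smul, hu])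
  obtain ⟨i, k, j, hN⟩ := hw
  have hcj : Cj x (N a b c d i k 0 j) := ⟨w * g, by rw [← hN]; group⟩
  rcases red_zero quad i k j with ⟨k', h1⟩ | h1 | h1
  · rw [h1] at hcj
    obtain ⟨w', hw'⟩ := hcj
    exact Or.inr ⟨w', by rw [hw']; exact zpowers_pw c k'⟩
  · obtain ⟨w', hw'⟩ := hcj.trans h1
    exact Or.inl ⟨w', by rw [hw']; exact zpowers_pw a i⟩
  · obtain ⟨w', hw'⟩ := hcj.trans h1
    obtain ⟨w1, m, hm⟩ := conj_b_a
    left
    refine ⟨w1 * w', ?_⟩
    have h2 : w1 * w' * x * (w1 * w')⁻¹ = w1 * (w' * x * w'⁻¹) * w1⁻¹ := by group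
    rw [h2, hw']
    unfold pw
    rw [← conj_pow]
    have hm' : a ^ m = w1 * b * w1⁻¹ := hm
    rw [← hm']
    exact pow_mem (zpow_mem (mem_zpowers a) m) _

theorem fixed_of_conj {x y : Co0} (h : Cj x y) {v : leechLattice} (hv : v ≠ 0) (hy : y • v = v) :
    ∃ u : leechLattice, u ≠ 0 ∧ x • u = u := by
  obtain ⟨w, rfl⟩ := h
  refine ⟨w⁻¹ • v, ?_, ?_⟩
  · intro h0
    apply hv
    have h1 := congrArg (fun z : leechLattice => w • z) h0
    simp only [smul_inv_smul] at h1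
    rw [h1]
    exact co0_smul_zero w
  · rw [← mul_smul]
    have h2 : x * w⁻¹ = w⁻¹ * (w * x * w⁻¹) := by group
    rw [h2, mul_smul, hy]

/-- `d^l b^j` has fixed vectors -/
theorem fixed_db {l j : ZMod 5} (hl : l ≠ 0) (hj : j ≠ 0) :
    ∃ v : leechLattice, v ≠ 0 ∧ N a b c d 0 0 l j • v = v := by
  have hmem : ∀ l : ZMod 5, l ≠ 0 → l.val ∈ [1, 2, 3, 4] := by decide
  obtain ⟨hv, h1, h2⟩ := exists_fixed (fix_db l.val (hmem l hl) j.val (hmem j hj))
  refine ⟨⟨_, hv⟩, ne_zero_of_norm h1 (by norm_num), ?_⟩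
  rw [List.map_append, List.prod_append, List.map_replicate, List.map_replicate, List.prod_replicate,
    List.prod_replicate] at h2
  have h3 : N a b c d 0 0 l j = e 2 ^ l.val * e 1 ^ j.val := by
    unfold N E pw
    rw [ZMod.val_zero, pow_zero, pow_zero, one_mul, one_mul]
    rfl
  rw [h3]
  exact h2

/-- `c^k d` has fixed vectors for `k = 1, 2, 4` -/
theorem fixed_cd {k : ℕ} (hk : k = 1 ∨ k = 2 ∨ k = 4) :
    ∃ v : leechLattice, v ≠ 0 ∧ (c ^ k * d) • v = v := by
  have hc : e 0 * (e 1 * (e 9 * e 10)) = c := by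
    rw [e9, e10]
    simp only [c, a, b, mul_assoc]
  have hc' : ∀ z : Co0, e 0 * (e 1 * (e 9 * (e 10 * z))) = c * z := by
    intro z
    rw [← hc]
    simp only [mul_assoc]
  rcases hk with rfl | rfl | rfl
  · obtain ⟨hv, h1, h2⟩ := exists_fixed fix_cd1
    refine ⟨⟨_, hv⟩, ne_zero_of_norm h1 (by norm_num), ?_⟩
    simp only [List.map_cons, List.map_nil, List.prod_cons, List.prod_nil, mul_one, hc'] at h2
    have h3 : c ^ 1 * d = c * e 2 := by rw [pow_one]; rfl
    rw [h3]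
    exact h2
  · obtain ⟨hv, h1, h2⟩ := exists_fixed fix_cd2
    refine ⟨⟨_, hv⟩, ne_zero_of_norm h1 (by norm_num), ?_⟩
    simp only [List.map_cons, List.map_nil, List.prod_cons, List.prod_nil, mul_one, hc'] at h2
    have h3 : c ^ 2 * d = c * (c * e 2) := by rw [pow_two, mul_assoc]; rfl
    rw [h3]
    exact h2
  · obtain ⟨hv, h1, h2⟩ := exists_fixed fix_cd4
    refine ⟨⟨_, hv⟩, ne_zero_of_norm h1 (by norm_num), ?_⟩
    simp only [List.map_cons, List.map_nil, List.prod_cons, List.prod_nil, mul_one, hc'] at h2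
    have h3 : c ^ 4 * d = c * (c * (c * (c * e 2))) := by
      simp only [pow_succ, pow_zero, one_mul, mul_assoc]
      rfl
    rw [h3]
    exact h2

/-- `c^k d^l = (c^(k/l) d)^l` -/
theorem E_eq_pow (k l : ZMod 5) (m : ZMod 5) (hm : m * l = k) : E a c d 0 k l = (c ^ m.val * d) ^ l.val := by
  have h1 : c ^ m.val * d = E a c d 0 m 1 := by
    unfold E
    rw [pw_zero, pw_one, one_mul]
    rfl
  rw [h1, E_pow tri, ZMod.natCast_val, ZMod.cast_id', id, mul_zero, mul_one, mul_comm l m, hm]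

/-- **The elements of order five of `Co0`.** -/
theorem cases {x : Co0} (hx : orderOf x = 5) :
    (∃ w : Co0, w * x * w⁻¹ ∈ zpowers a) ∨ (∃ w : Co0, w * x * w⁻¹ ∈ zpowers c) ∨
      (∃ w : Co0, w * x * w⁻¹ ∈ zpowers d) := by
  have hfin := CoZero.finite_co0
  have hx5 : x ^ 5 = 1 := by rw [← hx, pow_orderOf_eq_one]
  by_cases hfix : ∃ v : leechLattice, v ≠ 0 ∧ x • v = v
  · obtain ⟨v, hv, hxv⟩ := hfix
    rcases conj_of_fix hx hv hxv with h1 | h1
    · exact Or.inl h1
    · exact Or.inr (Or.inl h1)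
  obtain ⟨w, -, i, k, l, j, hw⟩ := conj_into five (S := ⊤) (Q := P4 quad) le_top isPGroup_P4 (by
    rw [card_P4, Subgroup.card_top, S0397.result]
    norm_num) hx5 (mem_top x)
  have hcj : Cj x (N a b c d i k l j) := ⟨w, hw⟩
  have hl : l ≠ 0 := by
    rintro rfl
    obtain ⟨v, hn, ha, hb⟩ := exists_ab 32 (Or.inl rfl)
    exact hfix (fixed_of_conj hcj (ne_zero_of_norm hn (by norm_num)) (fix_N ha hb i k j))
  rcases red_l quad (i := i) (k := k) (j := j) hl with ⟨-, k', h1⟩ | ⟨hj, h1⟩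
  · have h2 := hcj.trans h1
    obtain ⟨m, hm⟩ : ∃ m : ZMod 5, m * l = k' := by
      have : ∀ l k : ZMod 5, l ≠ 0 → ∃ m : ZMod 5, m * l = k := by decide
      exact this l k' hl
    rw [E_eq_pow k' l m hm] at h2
    have hm2 : m.val = 0 ∨ m.val = 3 ∨ (m.val = 1 ∨ m.val = 2 ∨ m.val = 4) := by
      have := m.val_lt
      omega
    rcases hm2 with h0 | h3 | h4
    · right; right
      rw [h0, pow_zero, one_mul] at h2
      obtain ⟨w', hw'⟩ := h2
      exact ⟨w', by rw [hw']; exact pow_mem (mem_zpowers d) _⟩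
    · right; right
      rw [h3] at h2
      obtain ⟨w', hw'⟩ := h2
      -- `(c^3 d)^2 = c d^2 = h d h⁻¹`
      have h5 : (c ^ 3 * d) ^ 2 = h * d * h⁻¹ := by
        rw [hd, mul_inv_cancel_right]
        have h6 : Commute (c ^ 3) d := ((show Commute d c from dc).symm).pow_left 3
        rw [h6.mul_pow, ← pow_mul]
        have h7 : c ^ (3 * 2) = c := by
          have : (3 * 2 : ℕ) = 5 + 1 := rfl
          rw [this, pow_succ, c_pow, one_mul]
        rw [h7]
      have h6 : (c ^ 3 * d) ^ 5 = 1 := by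
        have h7 : Commute (c ^ 3) d := ((show Commute d c from dc).symm).pow_left 3
        rw [h7.mul_pow, ← pow_mul, mul_comm 3 5, pow_mul, c_pow, one_pow, d_pow, one_mul]
      have h7 : c ^ 3 * d = (h * d * h⁻¹) ^ 3 := by
        rw [← h5, ← pow_mul]
        have h8 : (2 * 3 : ℕ) = 5 + 1 := rfl
        have h9 : (c ^ 3 * d) ^ (5 + 1) = c ^ 3 * d := by
          rw [pow_succ (c ^ 3 * d) 5, h6, one_mul]
        rw [h8, h9]
      refine ⟨h⁻¹ * w', ?_⟩
      have h8 : h⁻¹ * w' * x * (h⁻¹ * w')⁻¹ = h⁻¹ * (w' * x * w'⁻¹) * h := by group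
      rw [h8, hw', h7]
      have h9 : h⁻¹ * ((h * d * h⁻¹) ^ 3) ^ l.val * h = (d ^ 3) ^ l.val := by
        rw [conj_pow, conj_pow]
        group
      rw [h9]
      exact pow_mem (pow_mem (mem_zpowers d) _) _
    · exfalso
      obtain ⟨v, hv, hv2⟩ := fixed_cd h4
      exact hfix (fixed_of_conj h2 hv (fix_pow hv2 _))
  · exfalso
    obtain ⟨v, hv, hv2⟩ := fixed_db hl hj
    exact hfix (fixed_of_conj (hcj.trans h1) hv hv2)

end Cfsg.Agent.CpAutCoOneFive.Cls
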