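import Cfsg.Agent.CpAutBig.TwoPrimes

/-!
# Primes dividing the order of the centralizer of an element of `Co0` of prime order (helper6)

* `totient_le_sub` : `Φ_n(f) u = 0`, `0 ≠ u ∈ R`, `R` invariant: `φ(n) ≤ dim R`;
* `not_dvd` : `x ∈ Co0` of prime order `p`, `W` the space of the fixed vectors: if `dim W < q - 1` and
  `24 < (q - 1) (p - 1) + dim W`, then the prime `q ≠ p` does not divide `|C(x)|`.
-/

set_option autoImplicit false

namespace Cfsg.Agent.CpAutCoOneFive.TwoPr

open Cfsg Polynomial Module Cfsg.Agent.SporadicStructure.Co0Base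
open Cfsg.Agent.SigZeroCo2.Lin Cfsg.Agent.CpAutBig Cfsg.Agent.CpAutBig.TwoPrimes

section abs

variable {V : Type*} [AddCommGroup V] [Module ℚ V]

theorem aeval_mem (f : Module.End ℚ V) (R : Submodule ℚ V) (hR : ∀ v ∈ R, f v ∈ R) (P : ℚ[X]) {u : V} (hu : u ∈ R) :
    aeval f P u ∈ R := by
  have hpow : ∀ i : ℕ, (f ^ i) u ∈ R := by
    intro i
    induction i with
    | zero => exact hu
    | succ i ih => rw [pow_succ', Module.End.mul_apply]; exact hR _ ih
  rw [Polynomial.aeval_eq_sum_range, LinearMap.sum_apply]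
  exact Submodule.sum_mem _ fun i _ => R.smul_mem _ (hpow i)

/-- A nonzero vector of an invariant subspace killed by the `n`-th cyclotomic polynomial. -/
theorem totient_le_sub [FiniteDimensional ℚ V] (f : Module.End ℚ V) (R : Submodule ℚ V) (hR : ∀ v ∈ R, f v ∈ R)
    {n : ℕ} (hn : 0 < n) {u : V} (hu : u ≠ 0) (huR : u ∈ R) (h : aeval f (cyclotomic n ℚ) u = 0) :
    n.totient ≤ finrank ℚ R := by
  refine totient_le (f.restrict hR) hn (u := ⟨u, huR⟩) (fun h0 => hu (congrArg Subtype.val h0)) ?_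
  have hpow : ∀ (i : ℕ) (w : R), ((((f.restrict hR) ^ i) w : R) : V) = (f ^ i) (w : V) := by
    intro i
    induction i with
    | zero => intro w; rfl
    | succ i ih =>
      intro w
      rw [pow_succ', Module.End.mul_apply, pow_succ', Module.End.mul_apply, ← ih w]
      rfl
  apply Subtype.ext
  rw [Polynomial.aeval_eq_sum_range, LinearMap.sum_apply] at h ⊢
  rw [Submodule.coe_sum, Submodule.coe_zero, ← h]
  apply Finset.sum_congr rfl
  intro i _
  change (((coeff (cyclotomic n ℚ) i) • (((f.restrict hR) ^ i) ⟨u, huR⟩ : R) : R) : V) = _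
  rw [Submodule.coe_smul, hpow]
  rfl

theorem pow_fix (T : Module.End ℚ V) {m n : ℕ} (hab : m.Coprime n) (hT : T ^ n = 1) (v : V) (hv : (T ^ m) v = v) :
    T v = v := by
  have hpow : ∀ k, (T ^ (m * k)) v = v := by
    intro k
    induction k with
    | zero => rw [mul_zero, pow_zero]; rfl
    | succ k ih => rw [mul_add, mul_one, pow_add, Module.End.mul_apply, hv, ih]
  by_cases hb : n = 1
  · rw [hb, pow_one] at hT
    rw [hT]; rfl
  by_cases hb0 : n = 0
  · rw [hb0, Nat.coprime_zero_right] at hab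
    rw [hab, pow_one] at hv
    exact hv
  obtain ⟨k, hk⟩ := Nat.exists_mul_mod_eq_one_of_coprime hab (by omega)
  have h1 : T ^ (m * k) = T := by
    conv_rhs => rw [← pow_one T]
    rw [← Nat.div_add_mod (m * k) n, hk.2, pow_add, pow_mul, hT, one_pow, one_mul]
  rw [← h1]
  exact hpow k

/-- The part where `X` has no fixed vectors. -/
theorem bound_range [FiniteDimensional ℚ V] {p q : ℕ} (hp : p.Prime) (hq : q.Prime) (hpq : p ≠ q)
    (X' Y' : Module.End ℚ V) (hcomm : Commute X' Y') (hX : X' ^ p = 1) (hY : Y' ^ q = 1) {w : V}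
    (hwR : w ∈ LinearMap.range (X' - 1)) (hw : Y' w ≠ w) :
    (q - 1) * (p - 1) ≤ finrank ℚ (LinearMap.range (X' - 1)) := by
  obtain ⟨R, hRdef⟩ : ∃ R, R = LinearMap.range (X' - 1) := ⟨_, rfl⟩
  rw [← hRdef] at hwR ⊢
  have hfree : ∀ v ∈ R, X' v = v → v = 0 := by
    intro v hv hvv
    rw [hRdef] at hv
    obtain ⟨v', rfl⟩ := hv
    exact eq_zero_of_range X' hp.pos hX hvv rfl
  have hRX : ∀ v ∈ R, X' v ∈ R := by
    intro v hv
    have h1 : (X' - 1) v ∈ R := by rw [hRdef]; exact ⟨v, rfl⟩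
    have h2 : X' v = (X' - 1) v + v := by
      change X' v = (X' v - v) + v
      abel
    rw [h2]
    exact R.add_mem h1 hv
  have hRY : ∀ v ∈ R, Y' v ∈ R := by
    intro v hv
    rw [hRdef] at hv ⊢
    obtain ⟨v', rfl⟩ := hv
    refine ⟨Y' v', ?_⟩
    have h1 : X' (Y' v') = Y' (X' v') := DFunLike.congr_fun hcomm.eq v'
    change X' (Y' v') - Y' v' = Y' (X' v' - v')
    rw [h1, map_sub]
  obtain ⟨g, hg⟩ : ∃ g, g = X' * Y' := ⟨_, rfl⟩
  have hRg : ∀ v ∈ R, g v ∈ R := by
    intro v hv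
    rw [hg]
    exact hRX _ (hRY _ hv)
  have hgn : ∀ n, g ^ n = X' ^ n * Y' ^ n := fun n => by rw [hg, hcomm.mul_pow]
  have hgq : g ^ q = X' ^ q := by rw [hgn, hY, mul_one]
  have hgp : g ^ p = Y' ^ p := by rw [hgn, hX, one_mul]
  have hgpq : g ^ (q * p) = 1 := by rw [pow_mul, hgq, ← pow_mul, mul_comm, pow_mul, hX, one_pow]
  have hgY : Commute g Y' := by
    rw [hg]
    exact hcomm.mul_left (Commute.refl _)
  have hcop : Nat.Coprime q p := (Nat.coprime_primes hq hp).2 (Ne.symm hpq)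
  let u := Y' w - w
  have hu : u ≠ 0 := sub_ne_zero.2 hw
  have huR : u ∈ R := R.sub_mem (hRY _ hwR) hwR
  have hpol : (X ^ q - 1) * ((X ^ p - 1) * cyclotomic (q * p) ℚ) = (X - 1) * (X ^ (q * p) - 1) := by
    rw [mul_comm (X - 1), ← cyclotomic_mul hp hq hpq]
    ring
  have key := congrArg (fun P : ℚ[X] => aeval g P u) hpol
  simp only [map_mul, map_sub, map_pow, aeval_X, map_one] at key
  rw [hgpq, sub_self, mul_zero, hgq, hgp] at key
  obtain ⟨u', hu'⟩ : ∃ u', u' = aeval g (cyclotomic (q * p) ℚ) u := ⟨_, rfl⟩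
  have hu'R : u' ∈ R := by rw [hu']; exact aeval_mem g R hRg _ huR
  have key2 : (X' ^ q - 1) ((Y' ^ p - 1) u') = 0 := by
    rw [hu']
    exact key
  have h1 : (Y' ^ p - 1) u' = 0 := by
    obtain ⟨t, ht⟩ : ∃ t, t = (Y' ^ p - 1) u' := ⟨_, rfl⟩
    have htR : t ∈ R := by
      rw [ht]
      have hpow : ∀ i : ℕ, (Y' ^ i) u' ∈ R := by
        intro i
        induction i with
        | zero => exact hu'R
        | succ i ih => rw [pow_succ', Module.End.mul_apply]; exact hRY _ ih
      exact R.sub_mem (hpow p) hu'R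
    rw [← ht] at key2 ⊢
    have h2 : (X' ^ q) t - t = 0 := key2
    exact hfree t htR (pow_fix X' hcop hX t (sub_eq_zero.1 h2))
  have h2 : Y' u' = u' := by
    have h3 : (Y' ^ p) u' - u' = 0 := h1
    exact pow_fix Y' hcop.symm hY u' (sub_eq_zero.1 h3)
  have h3 : u' = Y' (aeval g (cyclotomic (q * p) ℚ) w) - aeval g (cyclotomic (q * p) ℚ) w := by
    have hc : Commute (aeval g (cyclotomic (q * p) ℚ)) Y' := by
      have := Polynomial.aeval_eq_sum_range (p := cyclotomic (q * p) ℚ) g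
      rw [this]
      apply Commute.sum_left
      intro i _
      exact (hgY.pow_left i).smul_left _
    have h4 : aeval g (cyclotomic (q * p) ℚ) (Y' w) = Y' (aeval g (cyclotomic (q * p) ℚ) w) := by
      rw [← Module.End.mul_apply, ← Module.End.mul_apply, hc]
    rw [hu', ← h4]
    exact map_sub _ _ _
  have h4 := eq_zero_of_range Y' hq.pos hY h2 h3
  have h5 := totient_le_sub g R hRg (Nat.mul_pos hq.pos hp.pos) hu huR (hu'.symm.trans h4)
  rw [Nat.totient_mul hcop, Nat.totient_prime hq, Nat.totient_prime hp] at h5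
  exact h5

/-- The part fixed by `X`. -/
theorem bound_ker [FiniteDimensional ℚ V] {q : ℕ} (hq : q.Prime) (X' Y' : Module.End ℚ V) (hcomm : Commute X' Y')
    (hY : Y' ^ q = 1) {w : V} (hwR : w ∈ LinearMap.ker (X' - 1)) (hw : Y' w ≠ w) :
    q - 1 ≤ finrank ℚ (LinearMap.ker (X' - 1)) := by
  have hRY : ∀ v ∈ LinearMap.ker (X' - 1), Y' v ∈ LinearMap.ker (X' - 1) := by
    intro v hv
    rw [LinearMap.mem_ker] at hv ⊢
    have hv' : X' v - v = 0 := hv
    have h1 : X' (Y' v) = Y' (X' v) := DFunLike.congr_fun hcomm.eq v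
    change X' (Y' v) - Y' v = 0
    rw [h1, ← map_sub, hv', map_zero]
  have h1 : aeval Y' (cyclotomic q ℚ) (Y' w - w) = 0 := by
    have h2 : cyclotomic q ℚ * (X - 1) = X ^ q - 1 := @cyclotomic_prime_mul_X_sub_one ℚ _ q ⟨hq⟩
    have h3 := congrArg (fun P : ℚ[X] => aeval Y' P w) h2
    simp only [map_mul, map_sub, map_pow, aeval_X, map_one] at h3
    rw [hY, sub_self] at h3
    exact h3
  have h5 := totient_le_sub Y' _ hRY hq.pos (sub_ne_zero.2 hw)
    (Submodule.sub_mem _ (hRY _ hwR) hwR) h1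
  rwa [Nat.totient_prime hq] at h5

/-- `V` is the sum of the kernel and the range of `X - 1` -/
theorem sup_eq_top [FiniteDimensional ℚ V] {p : ℕ} (hp : 0 < p) (X' : Module.End ℚ V) (hX : X' ^ p = 1) :
    LinearMap.ker (X' - 1) ⊔ LinearMap.range (X' - 1) = ⊤ := by
  have h1 : LinearMap.ker (X' - 1) ⊓ LinearMap.range (X' - 1) = ⊥ := by
    rw [eq_bot_iff]
    rintro v ⟨hv, v', hv'⟩
    have hv2 : X' v - v = 0 := LinearMap.mem_ker.1 hv
    have hv3 : v = X' v' - v' := hv'.symm
    rw [Submodule.mem_bot]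
    exact eq_zero_of_range X' hp hX (sub_eq_zero.1 hv2) hv3
  apply Submodule.eq_top_of_finrank_eq
  have h2 := Submodule.finrank_sup_add_finrank_inf_eq (LinearMap.ker (X' - 1)) (LinearMap.range (X' - 1))
  rw [h1, finrank_bot, add_zero] at h2
  rw [h2, add_comm, LinearMap.finrank_range_add_finrank_ker]

end abs

/-- **Primes dividing `|C(x)|`.** -/
theorem not_dvd {p q : ℕ} (hp : p.Prime) (hq : q.Prime) (hpq : p ≠ q) {x : Co0} (hx : orderOf x = p)
    (h1 : finrank ℚ (LinearMap.ker (rep x - 1)) < q - 1)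
    (h2 : 24 < (q - 1) * (p - 1) + finrank ℚ (LinearMap.ker (rep x - 1))) :
    ¬ q ∣ Nat.card (Subgroup.centralizer ({x} : Set Co0)) := by
  have hfin := CoZero.finite_co0
  have : Fact q.Prime := ⟨hq⟩
  intro hd
  obtain ⟨y, hy⟩ := exists_prime_orderOf_dvd_card' q hd
  obtain ⟨y, hyc⟩ := y
  have hyo : orderOf y = q := by rwa [Subgroup.orderOf_mk] at hy
  rw [Subgroup.mem_centralizer_singleton_iff] at hyc
  have hcomm : Commute (rep x) (rep y) := by
    change rep x * rep y = rep y * rep x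
    rw [← map_mul, ← map_mul, hyc]
  have hX : (rep x) ^ p = 1 := by rw [← map_pow, ← hx, pow_orderOf_eq_one, map_one]
  have hY : (rep y) ^ q = 1 := by rw [← map_pow, ← hyo, pow_orderOf_eq_one, map_one]
  have hker : ∀ w ∈ LinearMap.ker (rep x - 1), rep y w = w := by
    intro w hw
    by_contra hne
    have h3 := bound_ker hq (rep x) (rep y) hcomm hY hw hne
    omega
  have hran : ∀ w ∈ LinearMap.range (rep x - 1), rep y w = w := by
    intro w hw
    by_contra hne
    have h3 := bound_range hp hq hpq (rep x) (rep y) hcomm hX hY hw hne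
    have h4 : finrank ℚ Sp = 24 := by
      rw [Module.finrank_fintype_fun_eq_card]
      rfl
    have h5 := LinearMap.finrank_range_add_finrank_ker (rep x - 1)
    rw [h4] at h5
    omega
  have h3 : rep y = 1 := by
    apply LinearMap.ext
    intro v
    have hv : v ∈ LinearMap.ker (rep x - 1) ⊔ LinearMap.range (rep x - 1) := by
      rw [sup_eq_top hp.pos (rep x) hX]
      exact Submodule.mem_top
    obtain ⟨v1, hv1, v2, hv2, rfl⟩ := Submodule.mem_sup.1 hv
    rw [map_add, hker v1 hv1, hran v2 hv2]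
    rfl
  have h4 : y = 1 := rep_injective (by rw [h3, map_one])
  rw [h4, orderOf_one] at hyo
  exact hq.one_lt.ne hyo

end Cfsg.Agent.CpAutCoOneFive.TwoPr
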