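import Cfsg.Agent.CpAutCoOneFive.Elem
import Cfsg.Agent.CpAutCoOneFive.TwoPr

/-!
# Fixed vectors of `d` and `c` (helper6)

* `free_d` : `d` has no nonzero fixed vector;
* `finrank_c` : the rational vectors fixed by `c` form a space of dimension at most 4.
-/

set_option autoImplicit false

namespace Cfsg.Agent.CpAutCoOneFive.Fac

open Cfsg Cfsg.Agent.SporadicStructure.Co0Base
open Cfsg.Agent.SporadicStructure.Co0Matrix Cfsg.Agent.CoOneType.CoEval
open Cfsg.Agent.SporadicA Cfsg.Agent.SigZeroCo2.Lin
open Cfsg.Agent.CpAutCoOneFive.Mat Cfsg.Agent.CpAutCoOneFive.Elem Module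

theorem length_fold (w : List ℕ) {l : List ℤ} (hl : l.length = 24) : (fold M w l).length = 24 := by
  induction w with
  | nil => exact hl
  | cons i w ih => exact length_ap (rep i).len _

theorem length_addL {s t : List ℤ} (hs : s.length = 24) (ht : t.length = 24) : (addL s t).length = 24 := by
  unfold addL
  rw [List.length_zipWith, hs, ht, min_self]

theorem getD_addL : ∀ (s t : List ℤ) (i : ℕ), s.length = t.length →
    (addL s t).getD i 0 = s.getD i 0 + t.getD i 0
  | [], [], i, _ => by simp [addL]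
  | x :: s, y :: t, 0, _ => rfl
  | x :: s, y :: t, i + 1, h => getD_addL s t i (by simpa using h)
  | [], y :: t, i, h => by simp at h
  | x :: s, [], i, h => by simp at h

theorem vec_addL {s t : List ℤ} (hs : s.length = 24) (ht : t.length = 24) : vec (addL s t) = vec s + vec t := by
  funext p
  rw [Pi.add_apply, vec_apply, vec_apply, vec_apply, getD_addL s t _ (hs.trans ht.symm)]

/-- the sum of the first five powers -/
noncomputable def sm (x : Co0) (v : leechLattice) : leechLattice :=
  v + (x • v + (x • x • v + (x • x • x • v + x • x • x • x • v)))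

theorem sumW_spec (w : List ℕ) {l : List ℤ} (hl : l.length = 24) {v : leechLattice} (hv : (v : GolayPt → ℤ) = vec l) :
    ((sm (w.map e).prod v : leechLattice) : GolayPt → ℤ) = vec (sumW w l) ∧ (sumW w l).length = 24 := by
  obtain ⟨x, hx⟩ : ∃ x, x = (w.map e).prod := ⟨_, rfl⟩
  have key : ∀ {l : List ℤ} (_ : l.length = 24) {v : leechLattice} (_ : (v : GolayPt → ℤ) = vec l),
      (fold M w l).length = 24 ∧ ((x • v : leechLattice) : GolayPt → ℤ) = vec (fold M w l) := by
    intro l hl v hv
    refine ⟨length_fold w hl, ?_⟩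
    rw [hx]
    exact (fold_spec rep w hl.le hv).2
  obtain ⟨l1, h1⟩ := key hl hv
  obtain ⟨l2, h2⟩ := key l1 h1
  obtain ⟨l3, h3⟩ := key l2 h2
  obtain ⟨l4, h4⟩ := key l3 h3
  have k1 := length_addL l3 l4
  have k2 := length_addL l2 k1
  have k3 := length_addL l1 k2
  rw [← hx]
  refine ⟨?_, length_addL hl k3⟩
  unfold sumW
  rw [vec_addL hl k3, vec_addL l1 k2, vec_addL l2 k1, vec_addL l3 l4, ← hv, ← h1, ← h2, ← h3, ← h4]
  rfl

theorem vec_eL {i : ℕ} (hi : i < 24) : ((e8 (GolayBase.pt i) : leechLattice) : GolayPt → ℤ) = vec (eL i) := by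
  funext p
  rw [e8_coe, vec_apply]
  have h1 : (eL i).getD (GolayBase.idx p) 0 = if Nat.beq i (GolayBase.idx p) then 8 else 0 := getD_range_map _ p
  rw [h1, Pi.single_apply]
  by_cases h : p = GolayBase.pt i
  · subst h
    rw [GolayBase.idx_pt hi, if_pos rfl, if_pos (Nat.beq_refl i)]
  · rw [if_neg h, if_neg]
    intro h2
    apply h
    rw [Nat.eq_of_beq_eq_true h2, GolayBase.pt_idx]

theorem length_eL (i : ℕ) : (eL i).length = 24 := by
  unfold eL
  rw [List.length_map, List.length_range]

/-- the matrix of the sum of the powers -/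
theorem eight_sm (x : Co0) (v : leechLattice) (j : GolayPt) :
    8 * ((sm x v : leechLattice) : GolayPt → ℤ) j =
      ∑ i, (v : GolayPt → ℤ) i * ((sm x (e8 i) : leechLattice) : GolayPt → ℤ) j := by
  have h0 := eight_mul_co0 1 v j
  have h1 := eight_mul_co0 x v j
  have h2 := eight_mul_co0 (x * x) v j
  have h3 := eight_mul_co0 (x * x * x) v j
  have h4 := eight_mul_co0 (x * x * x * x) v j
  simp only [mul_smul, one_smul] at h0 h1 h2 h3 h4
  have e1 : ∀ u : leechLattice, ((sm x u : leechLattice) : GolayPt → ℤ) j =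
      (u : GolayPt → ℤ) j + (((x • u : leechLattice) : GolayPt → ℤ) j + (((x • x • u : leechLattice) : GolayPt → ℤ) j +
        (((x • x • x • u : leechLattice) : GolayPt → ℤ) j + ((x • x • x • x • u : leechLattice) : GolayPt → ℤ) j))) :=
    fun u => rfl
  rw [e1, mul_add, mul_add, mul_add, mul_add, h0, h1, h2, h3, h4]
  rw [← Finset.sum_add_distrib, ← Finset.sum_add_distrib, ← Finset.sum_add_distrib, ← Finset.sum_add_distrib]
  refine Finset.sum_congr rfl fun i _ => ?_
  rw [e1]
  ring

theorem zero_vec : vec (List.replicate 24 0) = 0 := by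
  funext p
  rw [vec_apply, Pi.zero_apply]
  have : ∀ i < 24, (List.replicate 24 (0 : ℤ)).getD i 0 = 0 := by decide
  exact this _ (GolayBase.idx_lt p)

/-- **`d` is fixed point free.** -/
theorem free_d : ∀ v : leechLattice, d • v = v → v = 0 := by
  have h1 : ∀ p : GolayPt, sm d (e8 p) = 0 := by
    intro p
    apply Subtype.ext
    have h2 := List.all_eq_true.1 Mat.free_d (GolayBase.idx p) (List.mem_range.2 (GolayBase.idx_lt p))
    have h3 := (sumW_spec [2] (length_eL _) (v := e8 p)
      (by rw [← vec_eL (GolayBase.idx_lt p), GolayBase.pt_idx])).1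
    rw [eqL_eq h2, zero_vec] at h3
    have h4 : ([2].map e).prod = d := mul_one _
    rw [h4] at h3
    exact h3
  intro v hv
  have h2 : sm d v = 0 := by
    apply Subtype.ext
    funext j
    have h3 := eight_sm d v j
    have h4 : ∀ i, (v : GolayPt → ℤ) i * ((sm d (e8 i) : leechLattice) : GolayPt → ℤ) j = 0 := by
      intro i
      rw [h1]
      exact mul_zero _
    rw [Finset.sum_congr rfl fun i _ => h4 i, Finset.sum_const_zero] at h3
    change ((sm d v : leechLattice) : GolayPt → ℤ) j = 0
    omega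
  unfold sm at h2
  rw [hv, hv, hv, hv] at h2
  apply Subtype.ext
  funext j
  have h3 := congrArg (fun u : leechLattice => (u : GolayPt → ℤ) j) h2
  have h4 : (v : GolayPt → ℤ) j + ((v : GolayPt → ℤ) j + ((v : GolayPt → ℤ) j + ((v : GolayPt → ℤ) j +
    (v : GolayPt → ℤ) j))) = 0 := h3
  change (v : GolayPt → ℤ) j = 0
  omega

/-- the basis vectors -/
theorem bs_mem (k : ℕ) (hk : k < 4) : vec (bs.getD k []) ∈ leechLattice ∧ (bs.getD k []).length = 24 := by
  have h1 := bs_ok
  rw [List.all_eq_true] at h1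
  have h2 : bs.getD k [] ∈ bs := by
    rw [List.getD_eq_getElem _ _ (by rw [bs_length]; exact hk)]
    exact List.getElem_mem _
  have h3 := h1 _ h2
  rw [Bool.and_eq_true] at h3
  exact ⟨vec_mem_of_leechB h3.1, Nat.eq_of_beq_eq_true h3.2⟩

theorem length_map_mul {l : List ℤ} (hl : l.length = 24) (x : ℤ) : (l.map fun a => x * a).length = 24 := by
  rw [List.length_map, hl]

theorem vec_map_mul (l : List ℤ) (x : ℤ) : vec (l.map fun a => x * a) = x • vec l := by
  funext p
  rw [Pi.smul_apply, vec_apply, vec_apply, smul_eq_mul]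
  have key : ∀ (l : List ℤ) (i : ℕ), (l.map fun a => x * a).getD i 0 = x * l.getD i 0 := by
    intro l
    induction l with
    | nil => intro i; simp
    | cons a l ih =>
      intro i
      cases i with
      | zero => rfl
      | succ i => exact ih i
  exact key l _

theorem lcomb_spec : ∀ (s : List ℤ) (t : List (List ℤ)), (∀ l ∈ t, l.length = 24) →
    (lcomb s t).length = 24 ∧ ∀ S : Submodule ℚ Sp, (∀ l ∈ t, (fun p => ((vec l p : ℤ) : ℚ)) ∈ S) →
      (fun p => ((vec (lcomb s t) p : ℤ) : ℚ)) ∈ S
  | [], t, _ => by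
    have h1 : lcomb [] t = List.replicate 24 0 := by
      unfold lcomb
      rfl
    rw [h1]
    refine ⟨by simp, fun S _ => ?_⟩
    have h2 : (fun p => ((vec (List.replicate 24 0) p : ℤ) : ℚ)) = 0 := by
      rw [zero_vec]
      funext p
      simp
    rw [h2]
    exact S.zero_mem
  | x :: s, [], _ => by
    have h1 : lcomb (x :: s) [] = List.replicate 24 0 := by
      unfold lcomb
      rfl
    rw [h1]
    refine ⟨by simp, fun S _ => ?_⟩
    have h2 : (fun p => ((vec (List.replicate 24 0) p : ℤ) : ℚ)) = 0 := by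
      rw [zero_vec]
      funext p
      simp
    rw [h2]
    exact S.zero_mem
  | x :: s, l :: t, h => by
    obtain ⟨h1, h2⟩ := lcomb_spec s t fun l' hl' => h l' (List.mem_cons_of_mem _ hl')
    have h3 := h l List.mem_cons_self
    have h4 : lcomb (x :: s) (l :: t) = addL (l.map fun a => x * a) (lcomb s t) := by
      conv_lhs => unfold lcomb
    rw [h4]
    refine ⟨length_addL (length_map_mul h3 x) h1, fun S hS => ?_⟩
    have h5 : (fun p => ((vec (addL (l.map fun a => x * a) (lcomb s t)) p : ℤ) : ℚ)) =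
        (x : ℚ) • (fun p => ((vec l p : ℤ) : ℚ)) + (fun p => ((vec (lcomb s t) p : ℤ) : ℚ)) := by
      rw [vec_addL (length_map_mul h3 x) h1, vec_map_mul]
      funext p
      simp
    rw [h5]
    exact S.add_mem (S.smul_mem _ (hS l List.mem_cons_self))
      (h2 S fun l' hl' => hS l' (List.mem_cons_of_mem _ hl'))

/-- **The space of the vectors fixed by `c`.** -/
theorem finrank_c : finrank ℚ (LinearMap.ker (SigZeroCo2.Lin.rep c - 1)) ≤ 4 := by
  classical
  obtain ⟨R, hR⟩ : ∃ R : Module.End ℚ Sp, R = SigZeroCo2.Lin.rep c := ⟨_, rfl⟩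
  let U : Fin 4 → Sp := fun k p => ((vec (bs.getD k []) p : ℤ) : ℚ)
  let S : Submodule ℚ Sp := Submodule.span ℚ (Set.range U)
  have hlen : ∀ l ∈ bs, l.length = 24 := by
    intro l hl
    have h1 := List.all_eq_true.1 bs_ok l hl
    rw [Bool.and_eq_true] at h1
    exact Nat.eq_of_beq_eq_true h1.2
  have hS : ∀ l ∈ bs, (fun p => ((vec l p : ℤ) : ℚ)) ∈ S := by
    intro l hl
    obtain ⟨k, hk, rfl⟩ := List.getElem_of_mem hl
    have hk4 : k < 4 := by rwa [bs_length] at hk
    apply Submodule.subset_span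
    refine ⟨⟨k, hk4⟩, ?_⟩
    funext p
    change ((vec (bs.getD k []) p : ℤ) : ℚ) = _
    rw [List.getD_eq_getElem _ _ hk]
  have h1 : ∀ p : GolayPt, toV (sm c (e8 p)) ∈ S := by
    intro p
    have h2 := List.all_eq_true.1 rank_c (GolayBase.idx p) (List.mem_range.2 (GolayBase.idx_lt p))
    have h3 := (sumW_spec [0, 1, 9, 10] (length_eL _) (v := e8 p)
      (by rw [← vec_eL (GolayBase.idx_lt p), GolayBase.pt_idx])).1
    rw [eqL_eq h2] at h3
    have h4 : ([0, 1, 9, 10].map e).prod = c := by
      simp only [List.map_cons, List.map_nil, List.prod_cons, List.prod_nil, mul_one, e9, e10]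
      simp only [c, a, b, mul_assoc]
    rw [h4] at h3
    have h5 : toV (sm c (e8 p)) = fun q => ((vec (lcomb (co.getD (GolayBase.idx p) []) bs) q : ℤ) : ℚ) := by
      funext q
      rw [toV_apply, h3]
    rw [h5]
    exact (lcomb_spec _ _ hlen).2 S hS
  -- the sum of the powers
  let F : Module.End ℚ Sp := 1 + (R + (R * R + (R * R * R + R * R * R * R)))
  have hF : ∀ v : leechLattice, F (toV v) = toV (sm c v) := by
    intro v
    have h2 : F (toV v) = toV v + (R (toV v) + (R (R (toV v)) + (R (R (R (toV v))) + R (R (R (R (toV v))))))) := rfl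
    rw [h2, hR]
    unfold sm
    rw [toV_add, toV_add, toV_add, toV_add, rep_toV, rep_toV, rep_toV, rep_toV]
  have hFS : ∀ v : Sp, F v ∈ S := by
    intro v
    have h2 : v = ∑ i, (v i / 8) • toV (e8 i) := by
      funext j
      rw [Finset.sum_apply]
      simp only [toV_e8, Pi.smul_apply, Pi.single_apply]
      rw [Finset.sum_eq_single j]
      · simp
      · intro i _ hij
        rw [if_neg (Ne.symm hij)]
        simp
      · intro h
        exact absurd (Finset.mem_univ j) h
    rw [h2, map_sum]
    refine Submodule.sum_mem _ fun i _ => ?_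
    rw [map_smul, hF]
    exact S.smul_mem _ (h1 i)
  have hle : LinearMap.ker (SigZeroCo2.Lin.rep c - 1) ≤ S := by
    intro v hv
    rw [← hR, LinearMap.mem_ker] at hv
    have hv' : R v = v := sub_eq_zero.1 hv
    have h2 : F v = (5 : ℚ) • v := by
      have h3 : F v = v + (R v + (R (R v) + (R (R (R v)) + R (R (R (R v)))))) := rfl
      rw [h3, hv', hv', hv', hv']
      have : (5 : ℚ) = 1 + (1 + (1 + (1 + 1))) := by norm_num
      rw [this, add_smul, add_smul, add_smul, add_smul, one_smul]
    have h3 : v = (5 : ℚ)⁻¹ • F v := by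
      rw [h2, smul_smul]
      norm_num
    rw [h3]
    exact S.smul_mem _ (hFS v)
  refine (Submodule.finrank_mono hle).trans ?_
  have h2 := finrank_range_le_card (R := ℚ) (b := U)
  rw [Fintype.card_fin] at h2
  exact h2

end Cfsg.Agent.CpAutCoOneFive.Fac
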