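import Cfsg.Agent.CpAutBig.Tab

/-!
# The centraliser in `Co0` of a permutation of cycle type `1^4 5^4` (helper6)

`pi5` : the permutation, `pi5_mem : pi5 ∈ M24`, fixing the points 6, 7, 18, 21;
`card_le` : an element of `Co0` acting as `pi5` on the coordinates has a centraliser of order at most
`16 * 60 * 75 = 72000`.
-/

set_option autoImplicit false
open scoped Pointwise

namespace Cfsg.Agent.CpAutCoOneFive.FivePerm

open Cfsg Cfsg.Agent.SporadicA.GolayBase Cfsg.Agent.SporadicStructure.TabPerm
open Cfsg.Agent.CpAutBig.FixCount Cfsg.Agent.CpAutBig.Tab Cfsg.Agent.CpAutBig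
open Cfsg.Agent.MonsterX.FrameStab (IsPerm)

def F5 : List ℕ := [9, 12, 3, 11, 2, 15, 6, 7, 14, 17, 8, 20, 16, 1, 5, 10, 23, 22, 18, 0, 4, 21, 19, 13]
def G5 : List ℕ := [19, 13, 4, 2, 20, 14, 6, 7, 10, 0, 15, 3, 1, 23, 8, 5, 12, 9, 18, 22, 11, 21, 17, 16]
def CY5 : List ℕ := [0, 1, 2, 2, 2, 3, 4, 5, 3, 0, 3, 2, 1, 1, 3, 3, 1, 0, 6, 0, 2, 7, 0, 1]
def REP5 : List ℕ := [0, 1, 2, 5, 6, 7, 18, 21]
def W5 : List ℕ := [0, 10825794, 15413891, 5112513, 2409888, 8517090, 13629219, 6997857, 9779358, 3147996, 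
  8260125, 14367327, 11664702, 1363324, 5951421, 16777215]
/-- The fixed vectors of norm 32 and 48, up to sign. -/
def A5 : List ℕ := [2254866566, 2326169734, 2322237574, 2259323014, 3078059895, 2071426935, 2008512375, 2004580215, 2572654455, 2509739895, 
  1503106935, 2577110903, 2543155575, 2539223415, 1469675895, 2610526583, 2037750135, 1970903415, 3111754103, 2042206583, 
  2574612375, 2507765655, 1501132695, 2579068823, 2006292375, 2002360215, 3080296343, 2073663383, 2035775895, 1972861335, 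
  3113712023, 2040232343, 1467455895, 2608306583, 2545392023, 2541459863, 1720092776, 2860943464, 2794096744, 1787463784, 
  1751549576, 2829485704, 2825553544, 1756006024, 1718118536, 2858969224, 2796054664, 1789421704, 2286192776, 2223278216, 
  1216645256, 3364128904, 2357495944, 2294581384, 2219346056, 1212713096, 3360196744, 2353563784, 1149798536, 3297282184, 
  1751681126, 2829617254, 1720223366, 2861074054, 1753639046, 2827643014, 1248233606, 3395717254, 1185319046, 3332802694, 
  1181386886, 3328870534, 1252690054, 3400173702, 2827397254, 1753917574, 2793966214, 1787333254, 2825423014, 1755875494, 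
  2004055927, 2000123767, 1937209207, 930576247, 3149363063, 3145430903, 3082516343, 2075883383, 2576586615, 1431803767, 
  3650590583, 2643957623, 2581043063, 2505807735, 1499174775, 1436260215, 1465219447, 2606070135, 1536522615, 1532590455, 
  2476308855, 3617159543, 2547612023, 2543679863, 3044383095, 1974835575, 3115686263, 2033817975, 964270455, 2105121143, 
  3048839543, 2038274423, 1433761687, 2511697815, 1505064855, 2570680215, 3648616343, 2641983383, 1438218135, 2575136663, 
  3075839895, 2069206935, 3147143063, 3143210903, 1939445655, 932812695, 2010748823, 2006816663, 2039708055, 3042408855, 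
  966228375, 2107079063, 2044164503, 1968929175, 3109779863, 3046865303, 2540935575, 2537003415, 2474088855, 3614939543, 
  1538759063, 1534826903, 1471912343, 2612763031, 2254997096, 2326300264, 2288412776, 2292869224, 2789640296, 1783007336, 
  2798028904, 1791395944, 1716160616, 2857011304, 1724549224, 2865399912, 2292623464, 2288691304, 2322106984, 2259192424, 
  2256955016, 2324326024, 2758182536, 2892400264, 1688635016, 1822852744, 1684702856, 1818920584, 2762638984, 2896856712, 
  2324080264, 2257233544, 2791598216, 1784965256, 1722050696, 2862901384, 2792122504, 1785489544, 1722574984, 2863425672]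

theorem chk5 : chk F5 G5 = true := by decide +kernel

/-- The permutation of cycle type `1^4 5^4`. -/
def pi5 : Equiv.Perm GolayPt := tabPerm F5 G5 chk5

theorem pi5_mem : pi5 ∈ M24 := tabPerm_mem_M24 _ _ _ (by decide +kernel)

theorem idx_pi5 (p : GolayPt) : idx (pi5 p) = F5.getD (idx p) 0 := idx_tab chk5 p

theorem pi5_fix {i : ℕ} (hi : i = 6 ∨ i = 7 ∨ i = 18 ∨ i = 21) : pi5 (pt i) = pt i := by
  apply idx_injective
  rw [idx_pi5]
  rcases hi with rfl | rfl | rfl | rfl <;> rw [idx_pt (by norm_num)] <;> decide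

theorem fix_iff (p : GolayPt) : pi5 p = p ↔ idx p = 6 ∨ idx p = 7 ∨ idx p = 18 ∨ idx p = 21 := by
  have h : ∀ i < 24, (F5.getD i 0 = i ↔ i = 6 ∨ i = 7 ∨ i = 18 ∨ i = 21) := by decide +kernel
  rw [← idx_injective.eq_iff, idx_pi5]
  exact h _ (idx_lt p)

theorem pi5_pow : pi5 ^ 5 = 1 := by
  ext1 p
  apply idx_injective
  have h : ∀ i < 24, (fun j => F5.getD j 0)^[5] i = i := by decide +kernel
  rw [show idx ((pi5 ^ 5 : Equiv.Perm GolayPt) p) = (fun j => F5.getD j 0)^[5] (idx p) from idx_iter chk5 5 p,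
    h _ (idx_lt p)]
  rfl

/-! ### Invariant words -/

theorem W5_check : allR 12 0 (fun i => !(invm F5 (enc i)) || W5.contains (enc i)) = true := by
  decide +kernel

theorem card_words5 : Nat.card {c : Finset GolayPt // c ∈ supports (golayCode : Set (GolayPt → ZMod 2)) ∧
      ∀ p, pi5 p ∈ c ↔ p ∈ c} ≤ 16 := card_words chk5 W5_check

/-! ### The centraliser in `M24` -/

/-- the invariant octad missing a fixed point -/
def O5 (x : ℕ) : ℕ := if x = 6 then 2409888 else if x = 7 then 10825794 else if x = 18 then 3147996 else 5112513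

theorem O5_check : ∀ x < 24, (x = 6 ∨ x = 7 ∨ x = 18 ∨ x = 21) → isCode (O5 x) = true ∧ popcount (O5 x) = 8 ∧
    invm F5 (O5 x) = true ∧ (O5 x).testBit x = false ∧
    ∀ w ∈ W5, popcount w = 8 → w.testBit x = false → w = O5 x := by
  decide +kernel

theorem smul_O5 {σ : Equiv.Perm GolayPt} (hσ : σ ∈ M24) (hc : σ * pi5 = pi5 * σ) {p : GolayPt} (hp : pi5 p = p) :
    σ • fin (O5 (idx p)) = fin (O5 (idx (σ p))) := by
  have h1 := O5_check _ (idx_lt p) ((fix_iff p).1 hp)
  have hp' : pi5 (σ p) = σ p := by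
    have : σ (pi5 p) = pi5 (σ p) := DFunLike.congr_fun hc p
    rw [← this, hp]
  have h2 := O5_check _ (idx_lt (σ p)) ((fix_iff (σ p)).1 hp')
  obtain ⟨o, ho, h3, h4⟩ := smul_inv chk5 W5_check hσ hc h1.1 h1.2.1 h1.2.2.1
  have h5 : ¬ (σ p ∈ fin o) := by
    rw [← h3]
    intro h6
    have h7 : p ∈ fin (O5 (idx p)) := (Finset.smul_mem_smul_finset_iff σ).1 h6
    rw [mem_fin, h1.2.2.2.1] at h7
    exact absurd h7 (by decide)
  rw [mem_fin, Bool.not_eq_true] at h5
  rw [h3, h2.2.2.2.2 o ho h4 h5]

/-- the possible images of the points 21, 6, 0 -/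
def cand5 : List (ℕ × ℕ × ℕ) :=
  [6, 7, 18, 21].flatMap fun x => ([6, 7, 18, 21].filter fun y => !(Nat.beq x y)).flatMap fun y =>
    ((List.range 24).filter fun z => (O5 x).testBit z && !(Nat.beq (F5.getD z 0) z)).map fun z => (x, y, z)

theorem length_cand5 : cand5.length = 60 := by decide +kernel

theorem mem_cand5 {x y z : ℕ} (hx : x = 6 ∨ x = 7 ∨ x = 18 ∨ x = 21) (hy : y = 6 ∨ y = 7 ∨ y = 18 ∨ y = 21)
    (hxy : x ≠ y) (hz : z < 24) (hzx : F5.getD z 0 ≠ z) (ho : (O5 x).testBit z = true) : (x, y, z) ∈ cand5 := by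
  have hb : ∀ a b : ℕ, a ≠ b → (!(Nat.beq a b)) = true := by
    intro a b h
    have h2 : Nat.beq a b = false := by
      rw [← Bool.not_eq_true]
      intro h3
      exact h (Nat.eq_of_beq_eq_true h3)
    rw [h2]; rfl
  unfold cand5
  rw [List.mem_flatMap]
  refine ⟨x, by simp only [List.mem_cons, List.not_mem_nil, or_false]; exact hx, ?_⟩
  rw [List.mem_flatMap]
  refine ⟨y, List.mem_filter.2 ⟨by simp only [List.mem_cons, List.not_mem_nil, or_false]; exact hy, hb _ _ hxy⟩, ?_⟩
  rw [List.mem_map]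
  refine ⟨z, List.mem_filter.2 ⟨List.mem_range.2 hz, ?_⟩, rfl⟩
  rw [Bool.and_eq_true]
  exact ⟨ho, hb _ _ hzx⟩

theorem triple_mem {σ : Equiv.Perm GolayPt} (hσ : σ ∈ M24) (hc : σ * pi5 = pi5 * σ) :
    (idx (σ (pt 21)), idx (σ (pt 6)), idx (σ (pt 0))) ∈ cand5 := by
  have hc' : ∀ p, σ (pi5 p) = pi5 (σ p) := fun p => DFunLike.congr_fun hc p
  have hfix : ∀ p, pi5 p = p → pi5 (σ p) = σ p := fun p hp => by rw [← hc', hp]
  have hne : ∀ {i j : ℕ}, i < 24 → j < 24 → i ≠ j → idx (σ (pt i)) ≠ idx (σ (pt j)) := by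
    intro i j hi hj h h2
    have h3 := σ.injective (idx_injective h2)
    have h4 := congrArg idx h3
    rw [idx_pt hi, idx_pt hj] at h4
    exact h h4
  apply mem_cand5 ((fix_iff _).1 (hfix _ (pi5_fix (by norm_num))))
    ((fix_iff _).1 (hfix _ (pi5_fix (by norm_num)))) (hne (by norm_num) (by norm_num) (by norm_num)) (idx_lt _)
  · rw [← idx_pi5]
    intro h
    have h1 : pi5 (σ (pt 0)) = σ (pt 0) := idx_injective h
    rw [← hc'] at h1
    have h2 := (fix_iff (pt 0)).1 (σ.injective h1)
    rw [idx_pt (by norm_num)] at h2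
    omega
  · rw [← mem_fin, ← smul_O5 hσ hc (pi5_fix (by norm_num))]
    apply Finset.smul_mem_smul_finset
    rw [mem_fin, idx_pt (by norm_num), idx_pt (by norm_num)]
    decide +kernel

/-- Octads separating points. -/
def sepA : List ℕ := [15335473, 2854977, 6447171, 8077824, 7864649, 6857221, 14747201, 6455896, 5112513]

def sepB : List ℕ := [13062145, 12222476, 6594610, 11010247, 1852256, 9204992]

/-- The mask of the cycle of the point 0 and the points 21, 6. -/
def nine5 : ℕ := 6947393

/-- The mask of the points separated by `sepA`. -/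
def nineA : ℕ := 16514943

theorem sepA_check : ∀ m ∈ sepA, isCode m = true ∧ popcount m = 8 ∧ 5 ≤ popcount (m &&& nine5) := by
  decide +kernel

theorem sepA_separates : ∀ i < 24, nineA.testBit i = true → ∀ j < 24,
    (∀ m ∈ sepA, m.testBit i = m.testBit j) → i = j := by
  decide +kernel

theorem sepB_check : ∀ m ∈ sepB, isCode m = true ∧ popcount m = 8 ∧ 5 ≤ popcount (m &&& nineA) := by
  decide +kernel

theorem sepB_separates : ∀ i < 24, ∀ j < 24, (∀ m ∈ sepB, m.testBit i = m.testBit j) → i = j := by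
  decide +kernel

theorem nine5_check : ∀ i < 24, nine5.testBit i = true → i = 21 ∨ i = 6 ∨
    ∃ e < 5, (fun j => F5.getD j 0)^[e] 0 = i := by
  decide +kernel

/-- An element of `M24` fixing the points of the mask `nine` fixes the points separated by octads. -/
theorem fix_more {sep : List ℕ} {nine big : ℕ}
    (hs : ∀ m ∈ sep, isCode m = true ∧ popcount m = 8 ∧ 5 ≤ popcount (m &&& nine))
    (hsep : ∀ i < 24, big.testBit i = true → ∀ j < 24, (∀ m ∈ sep, m.testBit i = m.testBit j) → i = j)
    {τ : Equiv.Perm GolayPt} (hτ : τ ∈ M24) (h : ∀ p ∈ fin nine, τ p = p) : ∀ p ∈ fin big, τ p = p := by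
  have h1 : ∀ m ∈ sep, τ • fin m = fin m := by
    intro m hm
    have h2 := hs m hm
    have h3 : fin m ∈ octads := (fin_mem_octads_iff (isCode_lt h2.1)).2 ⟨h2.1, h2.2.1⟩
    apply octad_unique (smul_mem_octads hτ h3) h3
    have h4 : fin (m &&& nine) ⊆ τ • fin m ∩ fin m := by
      rw [fin_and]
      intro p hp
      rw [Finset.mem_inter] at hp ⊢
      refine ⟨?_, hp.1⟩
      rw [← h p hp.2]
      exact Finset.smul_mem_smul_finset hp.1
    have h5 := Finset.card_le_card h4
    rw [card_fin] at h5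
    exact h2.2.2.trans h5
  intro p hp
  rw [mem_fin] at hp
  apply idx_injective
  symm
  apply hsep _ (idx_lt _) hp _ (idx_lt _)
  intro m hm
  have h2 := h1 m hm
  have h3 : p ∈ fin m ↔ τ p ∈ fin m := by
    constructor
    · intro h4
      rw [← h2]
      exact Finset.smul_mem_smul_finset h4
    · intro h4
      rw [← h2, Finset.mem_smul_finset] at h4
      obtain ⟨q, hq, hqp⟩ := h4
      have h5 : q = p := τ.injective hqp
      rw [← h5]; exact hq
  rw [mem_fin, mem_fin] at h3
  exact Bool.eq_iff_iff.2 h3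

theorem triple_inj {σ σ' : Equiv.Perm GolayPt} (hσ : σ ∈ M24) (hc : σ * pi5 = pi5 * σ)
    (hσ' : σ' ∈ M24) (hc' : σ' * pi5 = pi5 * σ')
    (h0 : σ (pt 21) = σ' (pt 21)) (h1 : σ (pt 6) = σ' (pt 6)) (h6 : σ (pt 0) = σ' (pt 0)) : σ = σ' := by
  have h2 : σ'⁻¹ * σ = 1 := by
    have hM := M24.mul_mem (M24.inv_mem hσ') hσ
    apply eq_one_of_fix sepB_check sepB_separates hM
    apply fix_more sepA_check sepA_separates hM
    intro p hp
    have h3 : σ p = σ' p := by
      rw [mem_fin] at hp
      rcases nine5_check _ (idx_lt p) hp with h | h | ⟨e, -, h⟩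
      · rw [← pt_idx p, h, h0]
      · rw [← pt_idx p, h, h1]
      · have h4 : (pi5 ^ e : Equiv.Perm GolayPt) (pt 0) = p := by
          apply idx_injective
          rw [show idx ((pi5 ^ e : Equiv.Perm GolayPt) (pt 0)) = (fun j => F5.getD j 0)^[e] (idx (pt 0)) from
            idx_iter chk5 e _, idx_pt (by norm_num), h]
        have k1 : σ ((pi5 ^ e : Equiv.Perm GolayPt) (pt 0)) = (pi5 ^ e : Equiv.Perm GolayPt) (σ (pt 0)) :=
          iter_comm chk5 hc e _
        have k2 : σ' ((pi5 ^ e : Equiv.Perm GolayPt) (pt 0)) = (pi5 ^ e : Equiv.Perm GolayPt) (σ' (pt 0)) :=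
          iter_comm chk5 hc' e _
        rw [← h4, k1, k2, h6]
    change σ'⁻¹ (σ p) = p
    rw [h3]
    exact σ'.symm_apply_apply p
  exact (inv_mul_eq_one.1 h2).symm

/-- The elements of `M24` commuting with `pi5`. -/
theorem card_perm5 : Nat.card {σ : Equiv.Perm GolayPt // σ ∈ M24 ∧ σ * pi5 = pi5 * σ} ≤ 60 := by
  classical
  let f : {σ : Equiv.Perm GolayPt // σ ∈ M24 ∧ σ * pi5 = pi5 * σ} → cand5.toFinset := fun σ =>
    ⟨(idx (σ.1 (pt 21)), idx (σ.1 (pt 6)), idx (σ.1 (pt 0))),
      List.mem_toFinset.2 (triple_mem σ.2.1 σ.2.2)⟩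
  have hf : Function.Injective f := by
    intro σ σ' h
    have h1 := congrArg Subtype.val h
    simp only [f, Prod.mk.injEq] at h1
    exact Subtype.ext (triple_inj σ.2.1 σ.2.2 σ'.2.1 σ'.2.2 (idx_injective h1.1)
      (idx_injective h1.2.1) (idx_injective h1.2.2))
  have h2 := Nat.card_le_card_of_injective f hf
  rw [Nat.card_eq_fintype_card (α := cand5.toFinset), Fintype.card_coe] at h2
  exact h2.trans ((List.toFinset_card_le _).trans length_cand5.le)

/-! ### The centraliser in `Co0` -/

theorem CY5_check : ∀ i < 24, CY5.getD (F5.getD i 0) 0 = CY5.getD i 0 := by decide +kernel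
theorem W5_code : ∀ w ∈ W5, isCode w = true := by decide +kernel
theorem A5_check : chkA CY5 A5 W5 = true := by decide +kernel
theorem REP5_check : ∀ k < 8, REP5.getD k 0 < 24 ∧ CY5.getD (REP5.getD k 0) 0 = k := by decide +kernel
theorem A5_ne : ∀ a ∈ A5, ∃ k < 8, dg a k ≠ 0 := by decide +kernel
/-- two vectors of the list differ, also up to sign -/
def difB (a b : ℕ) : Bool :=
  (!((List.range 8).all fun k => decide (dg a k = dg b k))) && !((List.range 8).all fun k => decide (dg a k = -dg b k))

def pairB : List ℕ → Bool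
  | [] => true
  | a :: l => l.all (difB a) && pairB l

theorem pair_of_pairB : ∀ {l : List ℕ}, pairB l = true →
    l.Pairwise fun a b => (∃ k < 8, dg a k ≠ dg b k) ∧ (∃ k < 8, dg a k ≠ -dg b k)
  | [], _ => List.Pairwise.nil
  | a :: l, h => by
    rw [pairB, Bool.and_eq_true, List.all_eq_true] at h
    refine List.Pairwise.cons (fun b hb => ?_) (pair_of_pairB h.2)
    have h1 := h.1 b hb
    unfold difB at h1
    rw [Bool.and_eq_true, Bool.not_eq_true', Bool.not_eq_true'] at h1
    have key : ∀ f : ℕ → Bool, (List.range 8).all f = false → ∃ k < 8, f k = false := by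
      intro f hf
      by_contra hcon
      push Not at hcon
      have h2 : (List.range 8).all f = true := by
        rw [List.all_eq_true]
        intro k hk
        have h3 := hcon k (List.mem_range.1 hk)
        cases h4 : f k
        · exact absurd h4 h3
        · rfl
      rw [h2] at hf
      exact absurd hf (by decide)
    obtain ⟨k, hk, h2⟩ := key _ h1.1
    obtain ⟨k', hk', h2'⟩ := key _ h1.2
    exact ⟨⟨k, hk, of_decide_eq_false h2⟩, ⟨k', hk', of_decide_eq_false h2'⟩⟩

theorem A5_pairB : pairB A5 = true := by decide +kernel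

theorem A5_pair : A5.Pairwise fun a b => (∃ k < 8, dg a k ≠ dg b k) ∧ (∃ k < 8, dg a k ≠ -dg b k) :=
  pair_of_pairB A5_pairB

theorem REP5_iter : ∀ i < 24, ∃ k < 8, REP5.getD k 0 < 24 ∧
    ∃ e < 5, (fun j => F5.getD j 0)^[e] (REP5.getD k 0) = i := by decide +kernel

theorem A5_length : A5.length = 180 := by decide +kernel

/-- **The centraliser in `Co0`.** -/
theorem card_le [Finite Co0] {r : Co0} (hr : IsPerm r pi5) : Nat.card {A : Co0 // A * r = r * A} ≤ 72000 := by
  obtain ⟨v, hv, hv48, hne⟩ := exists_family chk5 CY5_check W5_code A5_check REP5_check A5_ne A5_pair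
  have h1 := FixCount.card_le (π := pi5) hr (i₀ := pt 6) (pi5_fix (Or.inl rfl)) (vals chk5 REP5 8)
    (vals_injective chk5 REP5_iter) v hv hv48 hne card_words5 card_perm5
  rw [A5_length] at h1
  exact h1

end Cfsg.Agent.CpAutCoOneFive.FivePerm
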