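import Cfsg.Agent.CoOneType.CoEval
import Cfsg.Agent.CoOneType.CoFast

/-!
# Elements of order five of `Co₀`: matrices (helper6)

24 × 24 integer matrices divided by 8.  Generated by a script; checked by the kernel.
-/

set_option autoImplicit false
set_option Elab.async false
set_option maxRecDepth 100000

namespace Cfsg.Agent.CpAutCoOneFive.Mat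

open Cfsg Cfsg.Agent.SporadicStructure.Co0Matrix Cfsg.Agent.CoOneType.CoEval

/-- rows: a permutation of cycle type `1^4 5^4` -/
def rA : List (List ℤ) := [
  [0, 0, 0, 0, 0, 0, 0, 0, 0, 0, 0, 0, 0, 0, 0, 0, 0, 0, 0, 8, 0, 0, 0, 0],
  [0, 0, 0, 0, 0, 0, 0, 0, 0, 0, 0, 0, 0, 8, 0, 0, 0, 0, 0, 0, 0, 0, 0, 0],
  [0, 0, 0, 0, 8, 0, 0, 0, 0, 0, 0, 0, 0, 0, 0, 0, 0, 0, 0, 0, 0, 0, 0, 0],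
  [0, 0, 8, 0, 0, 0, 0, 0, 0, 0, 0, 0, 0, 0, 0, 0, 0, 0, 0, 0, 0, 0, 0, 0],
  [0, 0, 0, 0, 0, 0, 0, 0, 0, 0, 0, 0, 0, 0, 0, 0, 0, 0, 0, 0, 8, 0, 0, 0],
  [0, 0, 0, 0, 0, 0, 0, 0, 0, 0, 0, 0, 0, 0, 8, 0, 0, 0, 0, 0, 0, 0, 0, 0],
  [0, 0, 0, 0, 0, 0, 8, 0, 0, 0, 0, 0, 0, 0, 0, 0, 0, 0, 0, 0, 0, 0, 0, 0],
  [0, 0, 0, 0, 0, 0, 0, 8, 0, 0, 0, 0, 0, 0, 0, 0, 0, 0, 0, 0, 0, 0, 0, 0],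
  [0, 0, 0, 0, 0, 0, 0, 0, 0, 0, 8, 0, 0, 0, 0, 0, 0, 0, 0, 0, 0, 0, 0, 0],
  [8, 0, 0, 0, 0, 0, 0, 0, 0, 0, 0, 0, 0, 0, 0, 0, 0, 0, 0, 0, 0, 0, 0, 0],
  [0, 0, 0, 0, 0, 0, 0, 0, 0, 0, 0, 0, 0, 0, 0, 8, 0, 0, 0, 0, 0, 0, 0, 0],
  [0, 0, 0, 8, 0, 0, 0, 0, 0, 0, 0, 0, 0, 0, 0, 0, 0, 0, 0, 0, 0, 0, 0, 0],
  [0, 8, 0, 0, 0, 0, 0, 0, 0, 0, 0, 0, 0, 0, 0, 0, 0, 0, 0, 0, 0, 0, 0, 0],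
  [0, 0, 0, 0, 0, 0, 0, 0, 0, 0, 0, 0, 0, 0, 0, 0, 0, 0, 0, 0, 0, 0, 0, 8],
  [0, 0, 0, 0, 0, 0, 0, 0, 8, 0, 0, 0, 0, 0, 0, 0, 0, 0, 0, 0, 0, 0, 0, 0],
  [0, 0, 0, 0, 0, 8, 0, 0, 0, 0, 0, 0, 0, 0, 0, 0, 0, 0, 0, 0, 0, 0, 0, 0],
  [0, 0, 0, 0, 0, 0, 0, 0, 0, 0, 0, 0, 8, 0, 0, 0, 0, 0, 0, 0, 0, 0, 0, 0],
  [0, 0, 0, 0, 0, 0, 0, 0, 0, 8, 0, 0, 0, 0, 0, 0, 0, 0, 0, 0, 0, 0, 0, 0],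
  [0, 0, 0, 0, 0, 0, 0, 0, 0, 0, 0, 0, 0, 0, 0, 0, 0, 0, 8, 0, 0, 0, 0, 0],
  [0, 0, 0, 0, 0, 0, 0, 0, 0, 0, 0, 0, 0, 0, 0, 0, 0, 0, 0, 0, 0, 0, 8, 0],
  [0, 0, 0, 0, 0, 0, 0, 0, 0, 0, 0, 8, 0, 0, 0, 0, 0, 0, 0, 0, 0, 0, 0, 0],
  [0, 0, 0, 0, 0, 0, 0, 0, 0, 0, 0, 0, 0, 0, 0, 0, 0, 0, 0, 0, 0, 8, 0, 0],
  [0, 0, 0, 0, 0, 0, 0, 0, 0, 0, 0, 0, 0, 0, 0, 0, 0, 8, 0, 0, 0, 0, 0, 0],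
  [0, 0, 0, 0, 0, 0, 0, 0, 0, 0, 0, 0, 0, 0, 0, 0, 8, 0, 0, 0, 0, 0, 0, 0]]

/-- columns -/
def cA : List (List ℤ) := [
  [0, 0, 0, 0, 0, 0, 0, 0, 0, 8, 0, 0, 0, 0, 0, 0, 0, 0, 0, 0, 0, 0, 0, 0],
  [0, 0, 0, 0, 0, 0, 0, 0, 0, 0, 0, 0, 8, 0, 0, 0, 0, 0, 0, 0, 0, 0, 0, 0],
  [0, 0, 0, 8, 0, 0, 0, 0, 0, 0, 0, 0, 0, 0, 0, 0, 0, 0, 0, 0, 0, 0, 0, 0],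
  [0, 0, 0, 0, 0, 0, 0, 0, 0, 0, 0, 8, 0, 0, 0, 0, 0, 0, 0, 0, 0, 0, 0, 0],
  [0, 0, 8, 0, 0, 0, 0, 0, 0, 0, 0, 0, 0, 0, 0, 0, 0, 0, 0, 0, 0, 0, 0, 0],
  [0, 0, 0, 0, 0, 0, 0, 0, 0, 0, 0, 0, 0, 0, 0, 8, 0, 0, 0, 0, 0, 0, 0, 0],
  [0, 0, 0, 0, 0, 0, 8, 0, 0, 0, 0, 0, 0, 0, 0, 0, 0, 0, 0, 0, 0, 0, 0, 0],
  [0, 0, 0, 0, 0, 0, 0, 8, 0, 0, 0, 0, 0, 0, 0, 0, 0, 0, 0, 0, 0, 0, 0, 0],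
  [0, 0, 0, 0, 0, 0, 0, 0, 0, 0, 0, 0, 0, 0, 8, 0, 0, 0, 0, 0, 0, 0, 0, 0],
  [0, 0, 0, 0, 0, 0, 0, 0, 0, 0, 0, 0, 0, 0, 0, 0, 0, 8, 0, 0, 0, 0, 0, 0],
  [0, 0, 0, 0, 0, 0, 0, 0, 8, 0, 0, 0, 0, 0, 0, 0, 0, 0, 0, 0, 0, 0, 0, 0],
  [0, 0, 0, 0, 0, 0, 0, 0, 0, 0, 0, 0, 0, 0, 0, 0, 0, 0, 0, 0, 8, 0, 0, 0],
  [0, 0, 0, 0, 0, 0, 0, 0, 0, 0, 0, 0, 0, 0, 0, 0, 8, 0, 0, 0, 0, 0, 0, 0],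
  [0, 8, 0, 0, 0, 0, 0, 0, 0, 0, 0, 0, 0, 0, 0, 0, 0, 0, 0, 0, 0, 0, 0, 0],
  [0, 0, 0, 0, 0, 8, 0, 0, 0, 0, 0, 0, 0, 0, 0, 0, 0, 0, 0, 0, 0, 0, 0, 0],
  [0, 0, 0, 0, 0, 0, 0, 0, 0, 0, 8, 0, 0, 0, 0, 0, 0, 0, 0, 0, 0, 0, 0, 0],
  [0, 0, 0, 0, 0, 0, 0, 0, 0, 0, 0, 0, 0, 0, 0, 0, 0, 0, 0, 0, 0, 0, 0, 8],
  [0, 0, 0, 0, 0, 0, 0, 0, 0, 0, 0, 0, 0, 0, 0, 0, 0, 0, 0, 0, 0, 0, 8, 0],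
  [0, 0, 0, 0, 0, 0, 0, 0, 0, 0, 0, 0, 0, 0, 0, 0, 0, 0, 8, 0, 0, 0, 0, 0],
  [8, 0, 0, 0, 0, 0, 0, 0, 0, 0, 0, 0, 0, 0, 0, 0, 0, 0, 0, 0, 0, 0, 0, 0],
  [0, 0, 0, 0, 8, 0, 0, 0, 0, 0, 0, 0, 0, 0, 0, 0, 0, 0, 0, 0, 0, 0, 0, 0],
  [0, 0, 0, 0, 0, 0, 0, 0, 0, 0, 0, 0, 0, 0, 0, 0, 0, 0, 0, 0, 0, 8, 0, 0],
  [0, 0, 0, 0, 0, 0, 0, 0, 0, 0, 0, 0, 0, 0, 0, 0, 0, 0, 0, 8, 0, 0, 0, 0],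
  [0, 0, 0, 0, 0, 0, 0, 0, 0, 0, 0, 0, 0, 8, 0, 0, 0, 0, 0, 0, 0, 0, 0, 0]]

/-- rows: b -/
def rB : List (List ℤ) := [
  [6, 0, 0, 0, 0, 2, 2, 0, 0, -2, 0, -2, -2, 0, 0, 0, -2, 0, -2, 0, 0, 0, 0, 0],
  [0, -2, 2, -2, 2, 0, 0, 2, -2, 0, 2, 0, 0, 2, -2, -2, 0, 2, 0, 2, 2, 2, -2, 2],
  [0, -2, 2, 2, 2, 0, 0, -2, -2, 0, 2, 0, 0, -2, 2, 2, 0, 2, 0, 2, -2, -2, 2, 2],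
  [0, 2, 2, 2, 2, 0, 0, -2, -2, 0, -2, 0, 0, 2, 2, 2, 0, 2, 0, -2, 2, 2, -2, -2],
  [-2, 0, 0, 0, 0, 2, 2, 0, 0, -2, 0, 6, -2, 0, 0, 0, -2, 0, -2, 0, 0, 0, 0, 0],
  [0, 2, -2, -2, 2, 0, 0, 2, 2, 0, 2, 0, 0, -2, 2, 2, 0, 2, 0, 2, 2, -2, -2, -2],
  [2, 0, 0, 0, 0, -2, 6, 0, 0, 2, 0, 2, 2, 0, 0, 0, 2, 0, 2, 0, 0, 0, 0, 0],
  [0, -2, -2, -2, 2, 0, 0, 2, 2, 0, -2, 0, 0, 2, 2, 2, 0, 2, 0, -2, -2, 2, 2, 2],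
  [2, 0, 0, 0, 0, 6, -2, 0, 0, 2, 0, 2, 2, 0, 0, 0, 2, 0, 2, 0, 0, 0, 0, 0],
  [0, 2, -2, 2, 2, 0, 0, -2, 2, 0, 2, 0, 0, 2, -2, -2, 0, 2, 0, 2, -2, 2, 2, -2],
  [0, -2, 2, 2, -2, 0, 0, 2, 2, 0, 2, 0, 0, -2, -2, 2, 0, 2, 0, -2, 2, 2, 2, -2],
  [0, -2, 2, 2, 2, 0, 0, 2, 2, 0, -2, 0, 0, 2, 2, -2, 0, -2, 0, 2, 2, -2, 2, -2],
  [0, 2, -2, 2, -2, 0, 0, 2, -2, 0, 2, 0, 0, 2, 2, -2, 0, 2, 0, -2, 2, -2, 2, 2],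
  [0, 2, 2, -2, -2, 0, 0, -2, 2, 0, -2, 0, 0, -2, 2, -2, 0, 2, 0, 2, 2, 2, 2, 2],
  [0, 2, 2, 2, 2, 0, 0, 2, 2, 0, 2, 0, 0, -2, 2, -2, 0, -2, 0, -2, -2, 2, -2, 2],
  [0, -2, -2, 2, -2, 0, 0, -2, 2, 0, 2, 0, 0, 2, 2, 2, 0, -2, 0, 2, 2, 2, -2, 2],
  [-2, 0, 0, 0, 0, 2, 2, 0, 0, -2, 0, -2, -2, 0, 0, 0, 6, 0, -2, 0, 0, 0, 0, 0],
  [0, 2, -2, 2, 2, 0, 0, 2, -2, 0, -2, 0, 0, -2, -2, 2, 0, -2, 0, 2, 2, 2, 2, 2],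
  [-2, 0, 0, 0, 0, 2, 2, 0, 0, -2, 0, -2, -2, 0, 0, 0, -2, 0, 6, 0, 0, 0, 0, 0],
  [-2, 0, 0, 0, 0, 2, 2, 0, 0, -2, 0, -2, 6, 0, 0, 0, -2, 0, -2, 0, 0, 0, 0, 0],
  [0, 2, 2, -2, 2, 0, 0, -2, 2, 0, 2, 0, 0, 2, -2, 2, 0, -2, 0, -2, 2, -2, 2, 2],
  [0, 2, 2, -2, -2, 0, 0, 2, -2, 0, 2, 0, 0, 2, 2, 2, 0, -2, 0, 2, -2, 2, 2, -2],
  [0, 2, 2, 2, -2, 0, 0, 2, 2, 0, -2, 0, 0, 2, -2, 2, 0, 2, 0, 2, -2, -2, -2, 2],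
  [-2, 0, 0, 0, 0, 2, 2, 0, 0, 6, 0, -2, -2, 0, 0, 0, -2, 0, -2, 0, 0, 0, 0, 0]]

/-- columns -/
def cB : List (List ℤ) := [
  [6, 0, 0, 0, -2, 0, 2, 0, 2, 0, 0, 0, 0, 0, 0, 0, -2, 0, -2, -2, 0, 0, 0, -2],
  [0, -2, -2, 2, 0, 2, 0, -2, 0, 2, -2, -2, 2, 2, 2, -2, 0, 2, 0, 0, 2, 2, 2, 0],
  [0, 2, 2, 2, 0, -2, 0, -2, 0, -2, 2, 2, -2, 2, 2, -2, 0, -2, 0, 0, 2, 2, 2, 0],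
  [0, -2, 2, 2, 0, -2, 0, -2, 0, 2, 2, 2, 2, -2, 2, 2, 0, 2, 0, 0, -2, -2, 2, 0],
  [0, 2, 2, 2, 0, 2, 0, 2, 0, 2, -2, 2, -2, -2, 2, -2, 0, 2, 0, 0, 2, -2, -2, 0],
  [2, 0, 0, 0, 2, 0, -2, 0, 6, 0, 0, 0, 0, 0, 0, 0, 2, 0, 2, 2, 0, 0, 0, 2],
  [2, 0, 0, 0, 2, 0, 6, 0, -2, 0, 0, 0, 0, 0, 0, 0, 2, 0, 2, 2, 0, 0, 0, 2],
  [0, 2, -2, -2, 0, 2, 0, 2, 0, -2, 2, 2, 2, -2, 2, -2, 0, 2, 0, 0, -2, 2, 2, 0],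
  [0, -2, -2, -2, 0, 2, 0, 2, 0, 2, 2, 2, -2, 2, 2, 2, 0, -2, 0, 0, 2, -2, 2, 0],
  [-2, 0, 0, 0, -2, 0, 2, 0, 2, 0, 0, 0, 0, 0, 0, 0, -2, 0, -2, -2, 0, 0, 0, 6],
  [0, 2, 2, -2, 0, 2, 0, -2, 0, 2, 2, -2, 2, -2, 2, 2, 0, -2, 0, 0, 2, 2, -2, 0],
  [-2, 0, 0, 0, 6, 0, 2, 0, 2, 0, 0, 0, 0, 0, 0, 0, -2, 0, -2, -2, 0, 0, 0, -2],
  [-2, 0, 0, 0, -2, 0, 2, 0, 2, 0, 0, 0, 0, 0, 0, 0, -2, 0, -2, 6, 0, 0, 0, -2],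
  [0, 2, -2, 2, 0, -2, 0, 2, 0, 2, -2, 2, 2, -2, -2, 2, 0, -2, 0, 0, 2, 2, 2, 0],
  [0, -2, 2, 2, 0, 2, 0, 2, 0, -2, -2, 2, 2, 2, 2, 2, 0, -2, 0, 0, -2, 2, -2, 0],
  [0, -2, 2, 2, 0, 2, 0, 2, 0, -2, 2, -2, -2, -2, -2, 2, 0, 2, 0, 0, 2, 2, 2, 0],
  [-2, 0, 0, 0, -2, 0, 2, 0, 2, 0, 0, 0, 0, 0, 0, 0, 6, 0, -2, -2, 0, 0, 0, -2],
  [0, 2, 2, 2, 0, 2, 0, 2, 0, 2, 2, -2, 2, 2, -2, -2, 0, -2, 0, 0, -2, -2, 2, 0],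
  [-2, 0, 0, 0, -2, 0, 2, 0, 2, 0, 0, 0, 0, 0, 0, 0, -2, 0, 6, -2, 0, 0, 0, -2],
  [0, 2, 2, -2, 0, 2, 0, -2, 0, 2, -2, 2, -2, 2, -2, 2, 0, 2, 0, 0, -2, 2, 2, 0],
  [0, 2, -2, 2, 0, 2, 0, -2, 0, -2, 2, 2, 2, 2, -2, 2, 0, 2, 0, 0, 2, -2, -2, 0],
  [0, 2, -2, 2, 0, -2, 0, 2, 0, 2, 2, -2, -2, 2, 2, 2, 0, 2, 0, 0, -2, 2, -2, 0],
  [0, -2, 2, -2, 0, -2, 0, 2, 0, 2, 2, 2, 2, 2, -2, -2, 0, 2, 0, 0, 2, 2, -2, 0],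
  [0, 2, 2, -2, 0, -2, 0, 2, 0, -2, -2, -2, 2, 2, 2, 2, 0, 2, 0, 0, 2, -2, 2, 0]]

/-- rows: d, without fixed vectors -/
def rD : List (List ℤ) := [
  [-2, 0, 0, 0, 0, -2, -2, 0, -2, 2, 2, 0, 4, 0, 2, -2, 0, 2, 0, -2, 0, 2, -2, 0],
  [0, -2, -2, 2, 2, 0, 0, 2, 0, 0, 0, -2, 2, -2, 0, 0, 2, -4, -2, 0, -2, 0, 0, -2],
  [0, 2, -2, 2, -2, 4, 0, 2, 0, 0, 0, 2, 2, -2, 0, 0, -2, 0, 2, 0, -2, 0, 0, 2],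
  [0, -2, -2, -2, -2, 0, 0, 2, 0, 0, 0, 2, 2, 2, 0, 4, 2, 0, 2, 0, 2, 0, 0, -2],
  [0, 2, 2, 2, -2, 0, 0, 2, 0, 0, 0, -2, -2, 2, 4, 0, 2, 0, 2, 0, -2, 0, 0, -2],
  [2, 0, 0, 0, 0, -2, 2, 0, -2, -2, 2, 0, 0, 0, -2, 2, 0, 2, 0, -2, -4, 2, 2, 0],
  [2, 0, 0, 0, 0, 2, -2, 0, 2, 2, 2, 0, 0, 0, 2, 2, 0, 2, -4, 2, 0, 2, 2, 0],
  [0, 2, -2, -2, -2, 0, 0, -2, 0, 0, 0, -2, 2, 2, 0, 0, 2, 0, -2, 0, -2, -4, 0, 2],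
  [2, 0, 0, -4, 0, 2, 2, 0, -2, 2, -2, 0, 0, 0, 2, -2, 0, -2, 0, -2, 0, 2, 2, 0],
  [-2, 0, 0, 0, 0, 2, -2, 0, 2, -2, -2, 0, 0, 0, -2, -2, 4, 2, 0, -2, 0, 2, 2, 0],
  [2, 0, -4, 0, 0, -2, 2, 0, 2, -2, -2, 0, 0, 0, 2, -2, 0, 2, 0, 2, 0, 2, -2, 0],
  [0, 2, -2, -2, 2, 0, 0, 2, 0, 0, 4, -2, -2, -2, 0, 0, 2, 0, 2, 0, 2, 0, 0, 2],
  [0, -2, 2, -2, -2, 0, 0, 2, 0, 0, 0, 2, -2, -2, 0, 0, 2, 0, -2, 0, -2, 0, -4, 2],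
  [0, 2, 2, -2, -2, 0, 0, 2, 0, -4, 0, -2, 2, -2, 0, 0, -2, 0, -2, 0, 2, 0, 0, -2],
  [-2, 0, 0, 0, 0, 2, 2, 0, -2, 2, -2, -4, 0, 0, -2, 2, 0, 2, 0, 2, 0, 2, -2, 0],
  [-2, 0, 0, 0, -4, -2, 2, 0, 2, 2, 2, 0, 0, 0, -2, -2, 0, -2, 0, 2, 0, 2, 2, 0],
  [0, -2, -2, 2, -2, 0, 0, 2, 0, 0, 0, -2, -2, 2, 0, 0, -2, 0, -2, -4, 2, 0, 0, 2],
  [-2, 0, 0, 0, 0, -2, -2, 0, -2, -2, -2, 0, 0, 0, 2, 2, 0, -2, 0, 2, 0, 2, 2, 4],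
  [0, 2, 2, 2, 2, 0, 4, 2, 0, 0, 0, 2, 2, 2, 0, 0, 2, 0, -2, 0, 2, 0, 0, 2],
  [2, 4, 0, 0, 0, -2, -2, 0, 2, 2, -2, 0, 0, 0, -2, 2, 0, -2, 0, -2, 0, 2, -2, 0],
  [0, -2, 2, -2, 2, 0, 0, 2, 4, 0, 0, -2, 2, 2, 0, 0, -2, 0, 2, 0, -2, 0, 0, 2],
  [2, 0, 0, 0, 0, -2, -2, 4, -2, 2, -2, 0, 0, 0, -2, -2, 0, 2, 0, 2, 0, -2, 2, 0],
  [2, 0, 0, 0, 0, 2, -2, 0, -2, -2, 2, 0, 0, 4, -2, -2, 0, -2, 0, 2, 0, 2, -2, 0],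
  [-4, 2, -2, -2, 2, 0, 0, 2, 0, 0, 0, 2, -2, 2, 0, 0, -2, 0, -2, 0, -2, 0, 0, -2]]

/-- columns -/
def cD : List (List ℤ) := [
  [-2, 0, 0, 0, 0, 2, 2, 0, 2, -2, 2, 0, 0, 0, -2, -2, 0, -2, 0, 2, 0, 2, 2, -4],
  [0, -2, 2, -2, 2, 0, 0, 2, 0, 0, 0, 2, -2, 2, 0, 0, -2, 0, 2, 4, -2, 0, 0, 2],
  [0, -2, -2, -2, 2, 0, 0, -2, 0, 0, -4, -2, 2, 2, 0, 0, -2, 0, 2, 0, 2, 0, 0, -2],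
  [0, 2, 2, -2, 2, 0, 0, -2, -4, 0, 0, -2, -2, -2, 0, 0, 2, 0, 2, 0, -2, 0, 0, -2],
  [0, 2, -2, -2, -2, 0, 0, -2, 0, 0, 0, 2, -2, -2, 0, -4, -2, 0, 2, 0, 2, 0, 0, 2],
  [-2, 0, 4, 0, 0, -2, 2, 0, 2, 2, -2, 0, 0, 0, 2, -2, 0, -2, 0, -2, 0, -2, 2, 0],
  [-2, 0, 0, 0, 0, 2, -2, 0, 2, -2, 2, 0, 0, 0, 2, 2, 0, -2, 4, -2, 0, -2, -2, 0],
  [0, 2, 2, 2, 2, 0, 0, -2, 0, 0, 0, 2, 2, 2, 0, 0, 2, 0, 2, 0, 2, 4, 0, 2],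
  [-2, 0, 0, 0, 0, -2, 2, 0, -2, 2, 2, 0, 0, 0, -2, 2, 0, -2, 0, 2, 4, -2, -2, 0],
  [2, 0, 0, 0, 0, -2, 2, 0, 2, -2, -2, 0, 0, -4, 2, 2, 0, -2, 0, 2, 0, 2, -2, 0],
  [2, 0, 0, 0, 0, 2, 2, 0, -2, -2, -2, 4, 0, 0, -2, 2, 0, -2, 0, -2, 0, -2, 2, 0],
  [0, -2, 2, 2, -2, 0, 0, -2, 0, 0, 0, -2, 2, -2, -4, 0, -2, 0, 2, 0, -2, 0, 0, 2],
  [4, 2, 2, 2, -2, 0, 0, 2, 0, 0, 0, -2, -2, 2, 0, 0, -2, 0, 2, 0, 2, 0, 0, -2],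
  [0, -2, -2, 2, 2, 0, 0, 2, 0, 0, 0, -2, -2, -2, 0, 0, 2, 0, 2, 0, 2, 0, 4, 2],
  [2, 0, 0, 0, 4, -2, 2, 0, 2, -2, 2, 0, 0, 0, -2, -2, 0, 2, 0, -2, 0, -2, -2, 0],
  [-2, 0, 0, 4, 0, 2, 2, 0, -2, -2, -2, 0, 0, 0, 2, -2, 0, 2, 0, 2, 0, -2, -2, 0],
  [0, 2, -2, 2, 2, 0, 0, 2, 0, 4, 0, 2, 2, -2, 0, 0, -2, 0, 2, 0, -2, 0, 0, -2],
  [2, -4, 0, 0, 0, 2, 2, 0, -2, 2, 2, 0, 0, 0, 2, -2, 0, -2, 0, -2, 0, 2, -2, 0],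
  [0, -2, 2, 2, 2, 0, -4, -2, 0, 0, 0, 2, -2, -2, 0, 0, -2, 0, -2, 0, 2, 0, 0, -2],
  [-2, 0, 0, 0, 0, -2, 2, 0, -2, -2, 2, 0, 0, 0, 2, 2, -4, 2, 0, -2, 0, 2, 2, 0],
  [0, -2, -2, 2, -2, -4, 0, -2, 0, 0, 0, 2, -2, 2, 0, 0, 2, 0, 2, 0, -2, 0, 0, -2],
  [2, 0, 0, 0, 0, 2, 2, -4, 2, 2, 2, 0, 0, 0, 2, 2, 0, 2, 0, 2, 0, -2, 2, 0],
  [-2, 0, 0, 0, 0, 2, 2, 0, 2, 2, -2, 0, -4, 0, -2, 2, 0, 2, 0, -2, 0, 2, -2, 0],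
  [0, -2, 2, -2, -2, 0, 0, 2, 0, 0, 0, 2, 2, -2, 0, 0, 2, 4, 2, 0, 2, 0, 0, -2]]

/-- rows: h with `h d h⁻¹ = c d²` -/
def rH : List (List ℤ) := [
  [-1, 1, 1, 1, -1, 3, -1, -1, 1, -3, 1, -1, -1, -1, 1, 3, 3, -1, 1, 3, -1, -1, -1, -1],
  [-1, -3, 1, 1, 3, 3, -1, -1, 1, 1, 1, -1, -1, -1, 1, -1, -1, -1, 1, -1, -1, 3, -1, 3],
  [-1, -3, 1, -3, -1, -1, -1, -1, 1, 1, 1, 3, -1, -1, -3, 3, -1, -1, 1, -1, -1, -1, -1, -1],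
  [-1, 1, 1, -3, 3, -1, -1, -1, -3, 1, 1, -1, -1, -1, 1, -1, -1, -1, -3, 3, -1, -1, -1, -1],
  [-1, 1, 1, 1, 3, -1, 3, -1, 1, 1, -3, -1, -1, -1, 1, 3, -1, 3, 1, -1, -1, -1, -1, -1],
  [-1, 1, 1, 1, -1, -1, -1, -1, -3, -3, 1, -1, -1, -1, -3, -1, -1, 3, 1, -1, -1, -1, -1, 3],
  [-1, 1, 1, 1, 3, -1, -1, 3, 1, 1, 1, -1, -1, -1, -3, -1, 3, -1, 1, -1, -1, -1, 3, -1],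
  [3, -3, 1, 1, -1, -1, -1, -1, 1, 1, 1, -1, -1, -1, 1, -1, -1, 3, 1, 3, -1, -1, 3, -1],
  [-3, -1, -1, -1, 1, -3, 1, 1, -1, -1, 3, 1, 1, 1, 3, 1, 1, 1, 3, 1, 1, 1, 1, 1],
  [-3, -1, -1, -1, 1, 1, 1, -3, 3, -1, -1, 1, 1, 1, -1, -3, 1, 1, -1, 1, 1, -3, 1, 1],
  [1, -1, 3, -1, 1, 1, 1, 1, -1, -1, -1, 1, 5, 1, -1, 1, 1, 1, -1, 1, -3, 1, 1, 1],
  [-3, -1, -1, -1, -3, 1, 1, 1, -1, 3, -1, -3, 1, -3, -1, 1, 1, 1, -1, 1, 1, 1, 1, 1],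
  [1, -1, -1, 3, 1, -3, 1, -3, -1, -1, -1, 1, 1, -3, -1, 1, 1, -3, -1, 1, 1, 1, 1, 1],
  [-1, 1, 1, 1, -1, -1, 3, -1, 1, 1, 1, -1, -1, 3, -3, -1, -1, -1, 1, 3, -1, 3, -1, -1],
  [-1, 1, 5, 1, -1, -1, -1, -1, 1, 1, 1, -1, 3, -1, 1, -1, -1, -1, 1, -1, 3, -1, -1, -1],
  [1, -1, -1, -1, 1, -3, -3, 1, 3, -1, -1, -3, 1, 1, -1, 1, 1, 1, -1, 1, 1, 1, -3, 1],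
  [-1, 1, 1, -3, -1, -1, -1, -1, 1, -3, -3, -1, -1, -1, 1, -1, -1, -1, 1, -1, -1, 3, 3, -1],
  [-1, 1, -3, 1, -1, -1, -1, -1, 1, 1, 1, -1, 3, -1, 1, -1, -1, -1, 1, -1, -5, -1, -1, -1],
  [1, -1, -1, -1, 1, 1, 1, -3, -1, -1, 3, -3, 1, 1, -1, 1, 1, 1, -1, -3, 1, 1, 1, -3],
  [3, 1, 1, -3, -1, -1, 3, -1, 1, 1, 1, -1, -1, -1, 1, -1, 3, -1, 1, -1, -1, -1, -1, 3],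
  [1, 3, -1, -1, 1, 1, 1, 1, 3, -1, 3, 1, 1, -3, -1, 1, -3, 1, -1, 1, 1, 1, 1, 1],
  [-1, -3, 1, 1, -1, -1, 3, 3, 1, -3, 1, -1, -1, -1, 1, -1, -1, -1, -3, -1, -1, -1, -1, -1],
  [-1, 1, 1, 1, -1, -1, -1, -1, 1, 1, 1, -1, -1, 3, 1, 3, -1, -1, -3, -1, -1, -1, 3, 3],
  [-1, 1, 1, 1, -1, -1, -1, -1, 1, 1, 1, 3, -1, -1, 1, -1, 3, 3, -3, -1, -1, 3, -1, -1]]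

/-- columns -/
def cH : List (List ℤ) := [
  [-1, -1, -1, -1, -1, -1, -1, 3, -3, -3, 1, -3, 1, -1, -1, 1, -1, -1, 1, 3, 1, -1, -1, -1],
  [1, -3, -3, 1, 1, 1, 1, -3, -1, -1, -1, -1, -1, 1, 1, -1, 1, 1, -1, 1, 3, -3, 1, 1],
  [1, 1, 1, 1, 1, 1, 1, 1, -1, -1, 3, -1, -1, 1, 5, -1, 1, -3, -1, 1, -1, 1, 1, 1],
  [1, 1, -3, -3, 1, 1, 1, 1, -1, -1, -1, -1, 3, 1, 1, -1, -3, 1, -1, -3, -1, 1, 1, 1],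
  [-1, 3, -1, 3, 3, -1, 3, -1, 1, 1, 1, -3, 1, -1, -1, 1, -1, -1, 1, -1, 1, -1, -1, -1],
  [3, 3, -1, -1, -1, -1, -1, -1, -3, 1, 1, 1, -3, -1, -1, -3, -1, -1, 1, -1, 1, -1, -1, -1],
  [-1, -1, -1, -1, 3, -1, -1, -1, 1, 1, 1, 1, 1, 3, -1, -3, -1, -1, 1, 3, 1, 3, -1, -1],
  [-1, -1, -1, -1, -1, -1, 3, -1, 1, -3, 1, 1, -3, -1, -1, 1, -1, -1, -3, -1, 1, 3, -1, -1],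
  [1, 1, 1, -3, 1, -3, 1, 1, -1, 3, -1, -1, -1, 1, 1, 3, 1, 1, -1, 1, 3, 1, 1, 1],
  [-3, 1, 1, 1, 1, -3, 1, 1, -1, -1, -1, 3, -1, 1, 1, -1, -3, 1, -1, 1, -1, -3, 1, 1],
  [1, 1, 1, 1, -3, 1, 1, 1, 3, -1, -1, -1, -1, 1, 1, -1, -3, 1, 3, 1, 3, 1, 1, 1],
  [-1, -1, 3, -1, -1, -1, -1, -1, 1, 1, 1, -3, 1, -1, -1, -3, -1, -1, -3, -1, 1, -1, -1, 3],
  [-1, -1, -1, -1, -1, -1, -1, -1, 1, 1, 5, 1, 1, -1, 3, 1, -1, 3, 1, -1, 1, -1, -1, -1],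
  [-1, -1, -1, -1, -1, -1, -1, -1, 1, 1, 1, -3, -3, 3, -1, 1, -1, -1, 1, -1, -3, -1, 3, -1],
  [1, 1, -3, 1, 1, -3, -3, 1, 3, -1, -1, -1, -1, -3, 1, -1, 1, 1, -1, 1, -1, 1, 1, 1],
  [3, -1, 3, -1, 3, -1, -1, -1, 1, -3, 1, 1, 1, -1, -1, 1, -1, -1, 1, -1, 1, -1, 3, -1],
  [3, -1, -1, -1, -1, -1, 3, -1, 1, 1, 1, 1, 1, -1, -1, 1, -1, -1, 1, 3, -3, -1, -1, 3],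
  [-1, -1, -1, -1, 3, 3, -1, 3, 1, 1, 1, 1, -3, -1, -1, 1, -1, -1, 1, -1, 1, -1, -1, 3],
  [1, 1, 1, -3, 1, 1, 1, 1, 3, -1, -1, -1, -1, 1, 1, -1, 1, 1, -1, 1, -1, -3, -3, -3],
  [3, -1, -1, 3, -1, -1, -1, 3, 1, 1, 1, 1, 1, 3, -1, 1, -1, -1, -3, -1, 1, -1, -1, -1],
  [-1, -1, -1, -1, -1, -1, -1, -1, 1, 1, -3, 1, 1, -1, 3, 1, -1, -5, 1, -1, 1, -1, -1, -1],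
  [-1, 3, -1, -1, -1, -1, -1, -1, 1, -3, 1, 1, 1, 3, -1, 1, 3, -1, 1, -1, 1, -1, -1, 3],
  [-1, -1, -1, -1, -1, -1, 3, 3, 1, 1, 1, 1, 1, -1, -1, -3, 3, -1, 1, -1, 1, -1, 3, -1],
  [-1, 3, -1, -1, -1, 3, -1, -1, 1, 1, 1, 1, 1, -1, -1, 1, -1, -1, -3, 3, 1, -1, 3, -1]]

/-- rows: s, acting on `⟨a, c, d⟩`, centralizing d -/
def rS : List (List ℤ) := [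
  [0, 2, -2, 2, -2, -2, 2, 2, 0, 0, 0, 0, 2, -2, 0, 0, 0, 0, 2, 2, 0, -2, 0, 4],
  [0, -2, -2, -2, 2, -2, 2, -2, 0, 0, 0, 0, 2, 2, 0, 0, 0, 4, 2, 2, 0, 2, 0, 0],
  [0, -2, -2, -2, -2, 2, 2, 2, -4, 0, 0, 0, 2, -2, 0, 0, 0, 0, -2, -2, 0, 2, 0, 0],
  [0, -2, 2, -2, 2, -2, -2, 2, 0, 0, 0, 0, 2, -2, 0, -4, 0, 0, -2, 2, 0, -2, 0, 0],
  [2, 0, 0, 0, 0, 0, 0, 0, 2, -2, 2, 2, 0, 0, 2, -2, 2, -2, 0, 0, 2, 4, 2, 2],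
  [2, 0, 0, 0, 0, 0, -4, 0, -2, -2, 2, -2, 0, 0, -2, 2, 2, 2, 0, 0, -2, 0, 2, 2],
  [-2, 4, 0, 0, 0, 0, 0, 0, -2, -2, 2, 2, 0, 0, 2, -2, -2, 2, 0, 0, -2, 0, 2, -2],
  [-2, 0, 0, 0, 0, 0, 0, 0, -2, 2, 2, -2, -4, 0, 2, -2, 2, 2, 0, 0, 2, 0, -2, 2],
  [0, -2, 2, 2, 2, 2, 2, 2, 0, 0, 0, 0, -2, -2, 0, 0, 0, 0, 2, 2, -4, 2, 0, 0],
  [0, 2, -2, 2, 2, 2, -2, -2, 0, 4, 0, 0, 2, -2, 0, 0, 0, 0, -2, 2, 0, 2, 0, 0],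
  [-2, 0, 0, 0, 4, 0, 0, 0, -2, -2, 2, 2, 0, 0, -2, 2, -2, -2, 0, 0, 2, 0, -2, 2],
  [0, -2, -2, -2, -2, 2, -2, -2, 0, 0, 0, 4, -2, -2, 0, 0, 0, 0, 2, 2, 0, -2, 0, 0],
  [-2, 0, 0, 0, 0, 0, 0, 0, 2, -2, -2, 2, 0, 0, 2, 2, 2, 2, -4, 0, -2, 0, -2, 2],
  [0, -2, -2, 2, 2, 2, -2, 2, 0, 0, 0, 0, 2, 2, 4, 0, 0, 0, 2, -2, 0, -2, 0, 0],
  [4, 2, -2, -2, 2, 2, 2, 2, 0, 0, 0, 0, -2, 2, 0, 0, 0, 0, -2, 2, 0, -2, 0, 0],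
  [2, 0, 0, 0, 0, 0, 0, -4, -2, -2, -2, -2, 0, 0, 2, -2, -2, -2, 0, 0, -2, 0, -2, 2],
  [0, 2, -2, -2, 2, -2, -2, 2, 0, 0, -4, 0, -2, -2, 0, 0, 0, 0, 2, -2, 0, 2, 0, 0],
  [-2, 0, -4, 0, 0, 0, 0, 0, 2, -2, 2, -2, 0, 0, -2, -2, 2, -2, 0, 0, -2, 0, -2, -2],
  [2, 0, 0, 0, 0, 0, 0, 0, 2, 2, 2, 2, 0, 0, -2, -2, -2, 2, 0, -4, -2, 0, -2, 2],
  [2, 0, 0, 0, 0, 0, 0, 0, 2, -2, 2, -2, 0, -4, 2, 2, -2, 2, 0, 0, 2, 0, -2, -2],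
  [0, 2, 2, -2, 2, 2, 2, -2, 0, 0, 0, 0, 2, -2, 0, 0, 4, 0, 2, -2, 0, -2, 0, 0],
  [2, 0, 0, 0, 0, -4, 0, 0, -2, 2, 2, 2, 0, 0, 2, 2, 2, -2, 0, 0, -2, 0, -2, -2],
  [2, 0, 0, 4, 0, 0, 0, 0, -2, -2, -2, 2, 0, 0, -2, -2, 2, 2, 0, 0, 2, 0, -2, -2],
  [0, -2, -2, 2, 2, -2, 2, -2, 0, 0, 0, 0, -2, -2, 0, 0, 0, 0, -2, -2, 0, -2, 4, 0]]

/-- columns -/
def cS : List (List ℤ) := [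
  [0, 0, 0, 0, 2, 2, -2, -2, 0, 0, -2, 0, -2, 0, 4, 2, 0, -2, 2, 2, 0, 2, 2, 0],
  [2, -2, -2, -2, 0, 0, 4, 0, -2, 2, 0, -2, 0, -2, 2, 0, 2, 0, 0, 0, 2, 0, 0, -2],
  [-2, -2, -2, 2, 0, 0, 0, 0, 2, -2, 0, -2, 0, -2, -2, 0, -2, -4, 0, 0, 2, 0, 0, -2],
  [2, -2, -2, -2, 0, 0, 0, 0, 2, 2, 0, -2, 0, 2, -2, 0, -2, 0, 0, 0, -2, 0, 4, 2],
  [-2, 2, -2, 2, 0, 0, 0, 0, 2, 2, 4, -2, 0, 2, 2, 0, 2, 0, 0, 0, 2, 0, 0, 2],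
  [-2, -2, 2, -2, 0, 0, 0, 0, 2, 2, 0, 2, 0, 2, 2, 0, -2, 0, 0, 0, 2, -4, 0, -2],
  [2, 2, 2, -2, 0, -4, 0, 0, 2, -2, 0, -2, 0, -2, 2, 0, -2, 0, 0, 0, 2, 0, 0, 2],
  [2, -2, 2, 2, 0, 0, 0, 0, 2, -2, 0, -2, 0, 2, 2, -4, 2, 0, 0, 0, -2, 0, 0, -2],
  [0, 0, -4, 0, 2, -2, -2, -2, 0, 0, -2, 0, 2, 0, 0, -2, 0, 2, 2, 2, 0, -2, -2, 0],
  [0, 0, 0, 0, -2, -2, -2, 2, 0, 4, -2, 0, -2, 0, 0, -2, 0, -2, 2, -2, 0, 2, -2, 0],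
  [0, 0, 0, 0, 2, 2, 2, 2, 0, 0, 2, 0, -2, 0, 0, -2, -4, 2, 2, 2, 0, 2, -2, 0],
  [0, 0, 0, 0, 2, -2, 2, -2, 0, 0, 2, 4, 2, 0, 0, -2, 0, -2, 2, -2, 0, 2, 2, 0],
  [2, 2, 2, 2, 0, 0, 0, -4, -2, 2, 0, -2, 0, 2, -2, 0, -2, 0, 0, 0, 2, 0, 0, -2],
  [-2, 2, -2, -2, 0, 0, 0, 0, -2, -2, 0, -2, 0, 2, 2, 0, -2, 0, 0, -4, -2, 0, 0, -2],
  [0, 0, 0, 0, 2, -2, 2, 2, 0, 0, -2, 0, 2, 4, 0, 2, 0, -2, -2, 2, 0, 2, -2, 0],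
  [0, 0, 0, -4, -2, 2, -2, -2, 0, 0, 2, 0, 2, 0, 0, -2, 0, -2, -2, 2, 0, 2, -2, 0],
  [0, 0, 0, 0, 2, 2, -2, 2, 0, 0, -2, 0, 2, 0, 0, -2, 0, 2, -2, -2, 4, 2, 2, 0],
  [0, 4, 0, 0, -2, 2, 2, 2, 0, 0, -2, 0, 2, 0, 0, -2, 0, -2, 2, 2, 0, -2, 2, 0],
  [2, 2, -2, -2, 0, 0, 0, 0, 2, -2, 0, 2, -4, 2, -2, 0, 2, 0, 0, 0, 2, 0, 0, -2],
  [2, 2, -2, 2, 0, 0, 0, 0, 2, 2, 0, 2, 0, -2, 2, 0, -2, 0, -4, 0, -2, 0, 0, -2],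
  [0, 0, 0, 0, 2, -2, -2, 2, -4, 0, 2, 0, -2, 0, 0, -2, 0, -2, -2, 2, 0, -2, 2, 0],
  [-2, 2, 2, -2, 4, 0, 0, 0, 2, 2, 0, -2, 0, -2, -2, 0, 2, 0, 0, 0, -2, 0, 0, -2],
  [0, 0, 0, 0, 2, 2, 2, -2, 0, 0, -2, 0, -2, 0, 0, -2, 0, -2, -2, -2, 0, -2, -2, 4],
  [4, 0, 0, 0, 2, 2, -2, 2, 0, 0, 2, 0, 2, 0, 0, 2, 0, -2, 2, -2, 0, -2, -2, 0]]

/-- rows: r, acting on `⟨a, c, d⟩`, centralizing a -/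
def rR : List (List ℤ) := [
  [0, 0, 2, 2, 2, -2, -2, 0, 2, 0, -2, -2, 0, 0, 2, 2, 0, -4, 2, 0, -2, 0, 0, 0],
  [0, 0, 2, 2, -2, -2, -2, 0, -2, 0, 2, -2, 0, 0, -2, 2, 4, 0, -2, 0, 2, 0, 0, 0],
  [-2, -2, 0, 0, 0, 0, 0, -2, 0, 2, 0, -4, 2, 2, 0, 0, -2, 2, 0, -2, 0, -2, -2, 2],
  [-2, 2, 0, 0, 0, 0, 0, -2, 0, -2, 0, 0, -2, 2, 0, 0, 2, 2, 0, -2, -4, -2, 2, -2],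
  [2, 2, 0, -4, 0, 0, 0, -2, 0, 2, 0, 0, -2, -2, 0, 0, 2, -2, 0, -2, 0, -2, -2, 2],
  [2, 2, 0, 0, 0, 0, 0, 2, 0, 2, 4, 0, 2, 2, 0, 0, -2, -2, 0, -2, 0, -2, 2, -2],
  [-2, 2, 0, 0, 0, 0, 4, 2, 0, -2, 0, 0, 2, 2, 0, 0, 2, -2, 0, -2, 0, 2, -2, 2],
  [0, 0, -2, -2, -2, -2, -2, 4, -2, 0, -2, -2, 0, 0, -2, -2, 0, 0, 2, 0, -2, 0, 0, 0],
  [-2, -2, 0, 0, 0, 4, 0, 2, 0, 2, 0, 0, -2, 2, 0, 0, 2, -2, 0, 2, 0, -2, 2, 2],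
  [0, 0, 2, 2, -2, 2, -2, 0, -2, 0, 2, 2, 0, 0, 2, -2, 0, 0, 2, 0, -2, 0, -4, 0],
  [2, -2, 0, 0, 0, 0, 0, 2, 0, -2, 0, 0, 2, -2, 4, 0, 2, 2, 0, -2, 0, -2, 2, 2],
  [-2, 2, 0, 0, -4, 0, 0, -2, 0, -2, 0, 0, 2, -2, 0, 0, -2, -2, 0, 2, 0, -2, 2, 2],
  [0, 0, -2, 2, 2, -2, -2, 0, 2, 0, 2, 2, 0, 0, -2, -2, 0, 0, -2, 0, -2, 0, 0, 4],
  [0, 0, 2, -2, 2, 2, -2, 0, -2, 0, -2, 2, 4, 0, -2, 2, 0, 0, -2, 0, -2, 0, 0, 0],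
  [2, 2, 0, 0, 0, 0, 0, 2, 0, -2, 0, 0, -2, 2, 0, 4, -2, 2, 0, 2, 0, -2, -2, 2],
  [-2, 2, 0, 0, 0, 0, 0, 2, 4, 2, 0, 0, 2, -2, 0, 0, 2, 2, 0, 2, 0, -2, -2, -2],
  [0, 0, 2, -2, -2, -2, -2, 0, 2, 0, -2, 2, 0, 4, 2, -2, 0, 0, -2, 0, 2, 0, 0, 0],
  [0, 0, -2, 2, -2, 2, -2, 0, 2, 0, -2, 2, 0, 0, -2, 2, 0, 0, 2, -4, 2, 0, 0, 0],
  [-2, -2, 0, 0, 0, 0, 0, 2, 0, -2, 0, 0, -2, -2, 0, 0, -2, -2, -4, -2, 0, -2, -2, -2],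
  [0, 0, 2, -2, 2, 2, -2, 0, 2, -4, 2, -2, 0, 0, -2, -2, 0, 0, 2, 0, 2, 0, 0, 0],
  [2, -2, -4, 0, 0, 0, 0, -2, 0, -2, 0, 0, 2, 2, 0, 0, 2, -2, 0, 2, 0, -2, -2, -2],
  [0, 0, 2, 2, 2, -2, 2, 0, -2, 0, -2, 2, 0, 0, -2, -2, 0, 0, 2, 0, 2, -4, 0, 0],
  [-4, 0, -2, -2, 2, -2, -2, 0, -2, 0, 2, 2, 0, 0, 2, 2, 0, 0, 2, 0, 2, 0, 0, 0],
  [0, 4, -2, 2, 2, 2, -2, 0, -2, 0, -2, -2, 0, 0, 2, -2, 0, 0, -2, 0, 2, 0, 0, 0]]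

/-- columns -/
def cR : List (List ℤ) := [
  [0, 0, -2, -2, 2, 2, -2, 0, -2, 0, 2, -2, 0, 0, 2, -2, 0, 0, -2, 0, 2, 0, -4, 0],
  [0, 0, -2, 2, 2, 2, 2, 0, -2, 0, -2, 2, 0, 0, 2, 2, 0, 0, -2, 0, -2, 0, 0, 4],
  [2, 2, 0, 0, 0, 0, 0, -2, 0, 2, 0, 0, -2, 2, 0, 0, 2, -2, 0, 2, -4, 2, -2, -2],
  [2, 2, 0, 0, -4, 0, 0, -2, 0, 2, 0, 0, 2, -2, 0, 0, -2, 2, 0, -2, 0, 2, -2, 2],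
  [2, -2, 0, 0, 0, 0, 0, -2, 0, -2, 0, -4, 2, 2, 0, 0, -2, -2, 0, 2, 0, 2, 2, 2],
  [-2, -2, 0, 0, 0, 0, 0, -2, 4, 2, 0, 0, -2, 2, 0, 0, -2, 2, 0, 2, 0, -2, -2, 2],
  [-2, -2, 0, 0, 0, 0, 4, -2, 0, -2, 0, 0, -2, -2, 0, 0, -2, -2, 0, -2, 0, 2, -2, -2],
  [0, 0, -2, -2, -2, 2, 2, 4, 2, 0, 2, -2, 0, 0, 2, 2, 0, 0, 2, 0, -2, 0, 0, 0],
  [2, -2, 0, 0, 0, 0, 0, -2, 0, -2, 0, 0, 2, -2, 0, 4, 2, 2, 0, 2, 0, -2, -2, -2],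
  [0, 0, 2, -2, 2, 2, -2, 0, 2, 0, -2, -2, 0, 0, -2, 2, 0, 0, -2, -4, -2, 0, 0, 0],
  [-2, 2, 0, 0, 0, 4, 0, -2, 0, 2, 0, 0, 2, -2, 0, 0, -2, -2, 0, 2, 0, -2, 2, -2],
  [-2, -2, -4, 0, 0, 0, 0, -2, 0, 2, 0, 0, 2, 2, 0, 0, 2, 2, 0, -2, 0, 2, 2, -2],
  [0, 0, 2, -2, -2, 2, 2, 0, -2, 0, 2, 2, 0, 4, -2, 2, 0, 0, -2, 0, 2, 0, 0, 0],
  [0, 0, 2, 2, -2, 2, 2, 0, 2, 0, -2, -2, 0, 0, 2, -2, 4, 0, -2, 0, 2, 0, 0, 0],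
  [2, -2, 0, 0, 0, 0, 0, -2, 0, 2, 4, 0, -2, -2, 0, 0, 2, -2, 0, -2, 0, -2, 2, 2],
  [2, 2, 0, 0, 0, 0, 0, -2, 0, -2, 0, 0, -2, 2, 4, 0, -2, 2, 0, -2, 0, -2, 2, -2],
  [0, 4, -2, 2, 2, -2, 2, 0, 2, 0, 2, -2, 0, 0, -2, 2, 0, 0, -2, 0, 2, 0, 0, 0],
  [-4, 0, 2, 2, -2, -2, -2, 0, -2, 0, 2, -2, 0, 0, 2, 2, 0, 0, -2, 0, -2, 0, 0, 0],
  [2, -2, 0, 0, 0, 0, 0, 2, 0, 2, 0, 0, -2, -2, 0, 0, -2, 2, -4, 2, 0, 2, 2, -2],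
  [0, 0, -2, -2, -2, -2, -2, 0, 2, 0, -2, 2, 0, 0, 2, 2, 0, -4, -2, 0, 2, 0, 0, 0],
  [-2, 2, 0, -4, 0, 0, 0, -2, 0, -2, 0, 0, -2, -2, 0, 0, 2, 2, 0, 2, 0, 2, 2, 2],
  [0, 0, -2, -2, -2, -2, 2, 0, -2, 0, -2, -2, 0, 0, -2, -2, 0, 0, -2, 0, -2, -4, 0, 0],
  [0, 0, -2, 2, -2, 2, -2, 0, 2, -4, 2, 2, 0, 0, -2, -2, 0, 0, -2, 0, -2, 0, 0, 0],
  [0, 0, 2, -2, 2, -2, 2, 0, 2, 0, 2, 2, 4, 0, 2, -2, 0, 0, -2, 0, -2, 0, 0, 0]]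

/-- rows: t, acting on `⟨a, c, d⟩`, centralizing a -/
def rT : List (List ℤ) := [
  [1, 1, 1, 1, 1, 1, 1, 1, 1, -3, -3, 1, 1, 1, 1, -3, 1, 1, 1, -3, -3, 1, 1, 1],
  [1, 1, 1, -3, 1, 1, 1, 1, -3, 1, 1, 1, 1, 1, 1, -3, -3, 1, 1, 1, 1, 1, 1, -3],
  [1, 1, -3, 1, 1, 1, 1, 1, 1, 1, 1, 1, 1, -3, 1, -3, 1, -3, -3, 1, 1, 1, 1, 1],
  [1, -3, 1, -3, 1, 1, 1, 1, 1, 1, -3, 1, 1, 1, 1, 1, 1, 1, -3, 1, 1, 1, -3, 1],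
  [1, 1, 1, 1, -3, -3, 1, 1, 1, -3, 1, 1, 1, 1, 1, 1, 1, 1, -3, 1, 1, 1, 1, -3],
  [-1, -1, -1, -1, 3, -1, -1, -1, -1, -1, -1, -1, -1, 3, -1, -1, 3, -1, -1, 3, -1, -1, 3, -1],
  [1, 1, 1, 1, 1, 1, 5, -3, 1, 1, 1, 1, 1, 1, 1, 1, 1, 1, 1, 1, 1, -3, 1, 1],
  [-1, -1, -1, -1, -1, -1, 3, 3, -1, -1, -1, -1, -1, -1, -1, -1, -1, -1, -1, -1, -1, -5, -1, -1],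
  [-1, 3, -1, -1, -1, -1, -1, -1, -1, 3, -1, 3, -1, -1, -1, -1, 3, 3, -1, -1, -1, -1, -1, -1],
  [-3, 1, 1, 1, -3, 1, 1, 1, -3, 1, -3, 1, 1, 1, 1, 1, 1, -3, 1, 1, 1, 1, 1, 1],
  [3, -1, -1, 3, -1, -1, -1, -1, -1, 3, -1, -1, 3, 3, -1, -1, -1, -1, -1, -1, -1, -1, -1, -1],
  [1, 1, 1, 1, 1, 1, 1, 1, -3, 1, 1, -3, -3, 1, 1, 1, 1, 1, -3, -3, 1, 1, 1, 1],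
  [1, 1, 1, 1, 1, 1, 1, 1, 1, 1, -3, -3, 1, -3, -3, 1, 1, 1, 1, 1, 1, 1, 1, -3],
  [1, 1, -3, 1, 1, -3, 1, 1, 1, 1, -3, 1, -3, 1, 1, 1, -3, 1, 1, 1, 1, 1, 1, 1],
  [-1, -1, -1, -1, -1, -1, -1, -1, -1, -1, -1, -1, 3, -1, -1, -1, -1, 3, -1, -1, 3, -1, 3, 3],
  [3, 3, 3, -1, -1, -1, -1, -1, -1, -1, -1, -1, -1, -1, -1, -1, -1, -1, -1, 3, -1, -1, -1, 3],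
  [1, -3, 1, 1, 1, -3, 1, 1, -3, 1, 1, 1, 1, -3, 1, 1, 1, 1, 1, 1, -3, 1, 1, 1],
  [1, 1, -3, 1, 1, 1, 1, 1, -3, -3, 1, 1, 1, 1, -3, 1, 1, 1, 1, 1, 1, 1, -3, 1],
  [-1, -1, 3, 3, 3, -1, -1, -1, -1, -1, -1, 3, -1, -1, -1, -1, -1, -1, -1, -1, 3, -1, -1, -1],
  [-3, 1, 1, 1, 1, -3, 1, 1, 1, 1, 1, -3, 1, 1, 1, -3, 1, 1, 1, 1, 1, 1, -3, 1],
  [-3, 1, 1, 1, 1, 1, 1, 1, 1, 1, 1, 1, 1, 1, -3, 1, -3, 1, -3, 1, -3, 1, 1, 1],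
  [-1, -1, -1, -1, -1, -1, 3, -5, -1, -1, -1, -1, -1, -1, -1, -1, -1, -1, -1, -1, -1, 3, -1, -1],
  [1, 1, 1, -3, 1, -3, 1, 1, 1, 1, 1, 1, 1, 1, -3, 1, 1, -3, 1, -3, 1, 1, 1, 1],
  [1, -3, 1, 1, -3, 1, 1, 1, 1, 1, 1, 1, -3, 1, -3, -3, 1, 1, 1, 1, 1, 1, 1, 1]]

/-- columns -/
def cT : List (List ℤ) := [
  [1, 1, 1, 1, 1, -1, 1, -1, -1, -3, 3, 1, 1, 1, -1, 3, 1, 1, -1, -3, -3, -1, 1, 1],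
  [1, 1, 1, -3, 1, -1, 1, -1, 3, 1, -1, 1, 1, 1, -1, 3, -3, 1, -1, 1, 1, -1, 1, -3],
  [1, 1, -3, 1, 1, -1, 1, -1, -1, 1, -1, 1, 1, -3, -1, 3, 1, -3, 3, 1, 1, -1, 1, 1],
  [1, -3, 1, -3, 1, -1, 1, -1, -1, 1, 3, 1, 1, 1, -1, -1, 1, 1, 3, 1, 1, -1, -3, 1],
  [1, 1, 1, 1, -3, 3, 1, -1, -1, -3, -1, 1, 1, 1, -1, -1, 1, 1, 3, 1, 1, -1, 1, -3],
  [1, 1, 1, 1, -3, -1, 1, -1, -1, 1, -1, 1, 1, -3, -1, -1, -3, 1, -1, -3, 1, -1, -3, 1],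
  [1, 1, 1, 1, 1, -1, 5, 3, -1, 1, -1, 1, 1, 1, -1, -1, 1, 1, -1, 1, 1, 3, 1, 1],
  [1, 1, 1, 1, 1, -1, -3, 3, -1, 1, -1, 1, 1, 1, -1, -1, 1, 1, -1, 1, 1, -5, 1, 1],
  [1, -3, 1, 1, 1, -1, 1, -1, -1, -3, -1, -3, 1, 1, -1, -1, -3, -3, -1, 1, 1, -1, 1, 1],
  [-3, 1, 1, 1, -3, -1, 1, -1, 3, 1, 3, 1, 1, 1, -1, -1, 1, -3, -1, 1, 1, -1, 1, 1],
  [-3, 1, 1, -3, 1, -1, 1, -1, -1, -3, -1, 1, -3, -3, -1, -1, 1, 1, -1, 1, 1, -1, 1, 1],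
  [1, 1, 1, 1, 1, -1, 1, -1, 3, 1, -1, -3, -3, 1, -1, -1, 1, 1, 3, -3, 1, -1, 1, 1],
  [1, 1, 1, 1, 1, -1, 1, -1, -1, 1, 3, -3, 1, -3, 3, -1, 1, 1, -1, 1, 1, -1, 1, -3],
  [1, 1, -3, 1, 1, 3, 1, -1, -1, 1, 3, 1, -3, 1, -1, -1, -3, 1, -1, 1, 1, -1, 1, 1],
  [1, 1, 1, 1, 1, -1, 1, -1, -1, 1, -1, 1, -3, 1, -1, -1, 1, -3, -1, 1, -3, -1, -3, -3],
  [-3, -3, -3, 1, 1, -1, 1, -1, -1, 1, -1, 1, 1, 1, -1, -1, 1, 1, -1, -3, 1, -1, 1, -3],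
  [1, -3, 1, 1, 1, 3, 1, -1, 3, 1, -1, 1, 1, -3, -1, -1, 1, 1, -1, 1, -3, -1, 1, 1],
  [1, 1, -3, 1, 1, -1, 1, -1, 3, -3, -1, 1, 1, 1, 3, -1, 1, 1, -1, 1, 1, -1, -3, 1],
  [1, 1, -3, -3, -3, -1, 1, -1, -1, 1, -1, -3, 1, 1, -1, -1, 1, 1, -1, 1, -3, -1, 1, 1],
  [-3, 1, 1, 1, 1, 3, 1, -1, -1, 1, -1, -3, 1, 1, -1, 3, 1, 1, -1, 1, 1, -1, -3, 1],
  [-3, 1, 1, 1, 1, -1, 1, -1, -1, 1, -1, 1, 1, 1, 3, -1, -3, 1, 3, 1, -3, -1, 1, 1],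
  [1, 1, 1, 1, 1, -1, -3, -5, -1, 1, -1, 1, 1, 1, -1, -1, 1, 1, -1, 1, 1, 3, 1, 1],
  [1, 1, 1, -3, 1, 3, 1, -1, -1, 1, -1, 1, 1, 1, 3, -1, 1, -3, -1, -3, 1, -1, 1, 1],
  [1, -3, 1, 1, -3, -1, 1, -1, -1, 1, -1, 1, -3, 1, 3, 3, 1, 1, -1, 1, 1, -1, 1, 1]]

/-- rows: a conjugate of d -/
def rY : List (List ℤ) := [
  [-1, -1, 1, -1, 1, 1, -1, 1, 1, -3, -3, 1, 3, -3, -1, 1, -3, 1, -1, -1, 1, 1, 1, 1],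
  [-3, -3, -1, 1, -1, -1, 1, -1, -1, -1, -1, -1, 1, -1, 1, -1, 3, -1, -3, 1, -1, -1, 3, -1],
  [-3, 1, -1, 1, 3, -1, -3, -1, -1, 3, -1, -1, 1, -1, -3, -1, -1, -1, 1, 1, -1, -1, -1, -1],
  [1, 1, -1, -3, 3, -1, 1, -1, 3, -1, -1, -1, 1, -1, 1, -1, 3, 3, 1, 1, -1, -1, -1, -1],
  [1, 1, -1, 1, -1, -1, 1, -1, -1, -1, -1, -5, 1, -1, 1, -1, -1, -1, 1, -3, -1, 3, -1, -1],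
  [-1, -1, 1, -1, 1, -3, 3, 1, 1, 1, 1, 1, -1, 1, -1, 1, -3, 1, -1, -1, -3, 1, 1, -3],
  [-1, -1, 1, -1, 1, 1, -1, 1, 1, 1, 1, -3, -1, 1, -1, 1, 1, 1, -1, -5, 1, -3, 1, 1],
  [-1, 3, 1, -1, -3, -3, -1, -3, 1, 1, -3, 1, -1, 1, -1, 1, 1, 1, -1, -1, 1, 1, 1, 1],
  [1, 1, 3, 1, -1, -1, -3, -1, -1, -1, 3, -1, 1, -1, 1, -1, -1, 3, 1, 1, -1, -1, 3, -1],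
  [3, -1, -3, 3, 1, -3, -1, 1, 1, 1, 1, 1, 3, 1, -1, 1, 1, 1, -1, -1, 1, 1, 1, 1],
  [3, -1, 1, -1, 1, 1, -1, 1, -3, 1, -3, 1, -1, 1, -1, -3, 1, 1, -1, -1, 1, 1, 1, -3],
  [1, 1, -1, 1, 3, -1, 1, -1, -1, -1, -1, -1, -3, -1, 1, 3, -1, -1, 1, 1, 3, -1, 3, -1],
  [-1, 3, -3, -1, 1, 1, -1, 1, -3, -3, 1, 1, -1, 1, -1, 1, 1, 1, -1, -1, -3, 1, 1, 1],
  [3, -1, 1, -1, 1, 1, -1, -3, 1, 1, 1, 1, -1, -3, -1, 1, 1, -3, -1, -1, -3, 1, 1, 1],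
  [1, -3, -1, 1, -1, -1, 1, -1, -1, -1, -1, -1, -3, -1, -3, -1, -1, 3, 1, 1, -1, -1, -1, 3],
  [-1, 3, 1, 3, 1, 1, 3, 1, 1, 1, 1, 1, -1, -3, -1, -3, 1, 1, -1, -1, 1, 1, 1, 1],
  [-1, -1, -3, -1, 1, 1, -1, -3, 1, 1, 1, 1, -1, 1, 3, -3, -3, 1, -1, -1, 1, 1, 1, 1],
  [1, 1, -1, -3, -1, -1, 1, -1, -1, -1, 3, -1, 1, -1, -3, -1, -1, -1, -3, 1, 3, -1, -1, -1],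
  [1, 1, -1, 1, -1, 3, 1, -1, -1, 3, -1, -1, 1, -1, 1, 3, -1, 3, -3, 1, -1, -1, -1, -1],
  [-1, -1, 1, -1, 1, 1, 3, -3, -3, 1, 1, 1, 3, 1, -1, 1, 1, 1, 3, -1, 1, 1, 1, 1],
  [1, 1, 3, 1, 3, -1, 1, -1, -1, -1, -1, -1, 1, 3, 1, -1, -1, -1, -3, 1, -1, -1, -1, 3],
  [1, 1, -1, 1, -1, -1, 1, -1, -1, -1, -1, 3, 1, -1, 1, -1, -1, -1, 1, -3, -1, -5, -1, -1],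
  [-1, -1, 1, 3, 1, 1, -1, -3, 1, -3, 1, 1, -1, 1, -1, 1, 1, 1, -1, -1, 1, 1, -3, -3],
  [1, 1, -1, 1, -1, 3, 1, -1, 3, -1, -1, -1, 1, 3, -3, -1, -1, -1, 1, 1, -1, -1, 3, -1]]

/-- columns -/
def cY : List (List ℤ) := [
  [-1, -3, -3, 1, 1, -1, -1, -1, 1, 3, 3, 1, -1, 3, 1, -1, -1, 1, 1, -1, 1, 1, -1, 1],
  [-1, -3, 1, 1, 1, -1, -1, 3, 1, -1, -1, 1, 3, -1, -3, 3, -1, 1, 1, -1, 1, 1, -1, 1],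
  [1, -1, -1, -1, -1, 1, 1, 1, 3, -3, 1, -1, -3, 1, -1, 1, -3, -1, -1, 1, 3, -1, 1, -1],
  [-1, 1, 1, -3, 1, -1, -1, -1, 1, 3, -1, 1, -1, -1, 1, 3, -1, -3, 1, -1, 1, 1, 3, 1],
  [1, -1, 3, 3, -1, 1, 1, -3, -1, 1, 1, 3, 1, 1, -1, 1, 1, -1, -1, 1, 3, -1, 1, -1],
  [1, -1, -1, -1, -1, -3, 1, -3, -1, -3, 1, -1, 1, 1, -1, 1, 1, -1, 3, 1, -1, -1, 1, 3],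
  [-1, 1, -3, 1, 1, 3, -1, -1, -3, -1, -1, 1, -1, -1, 1, 3, -1, 1, 1, 3, 1, 1, -1, 1],
  [1, -1, -1, -1, -1, 1, 1, -3, -1, 1, 1, -1, 1, -3, -1, 1, -3, -1, -1, -3, -1, -1, -3, -1],
  [1, -1, -1, 3, -1, 1, 1, 1, -1, 1, -3, -1, -3, 1, -1, 1, 1, -1, -1, -3, -1, -1, 1, 3],
  [-3, -1, 3, -1, -1, 1, 1, 1, -1, 1, 1, -1, -3, 1, -1, 1, 1, -1, 3, 1, -1, -1, -3, -1],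
  [-3, -1, -1, -1, -1, 1, 1, -3, 3, 1, -3, -1, 1, 1, -1, 1, 1, 3, -1, 1, -1, -1, 1, -1],
  [1, -1, -1, -1, -5, 1, -3, 1, -1, 1, 1, -1, 1, 1, -1, 1, 1, -1, -1, 1, -1, 3, 1, -1],
  [3, 1, 1, 1, 1, -1, -1, -1, 1, 3, -1, -3, -1, -1, -3, -1, -1, 1, 1, 3, 1, 1, -1, 1],
  [-3, -1, -1, -1, -1, 1, 1, 1, -1, 1, 1, -1, 1, -3, -1, -3, 1, -1, -1, 1, 3, -1, 1, 3],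
  [-1, 1, -3, 1, 1, -1, -1, -1, 1, -1, -1, 1, -1, -1, -3, -1, 3, -3, 1, -1, 1, 1, -1, -3],
  [1, -1, -1, -1, -1, 1, 1, 1, -1, 1, -3, 3, 1, 1, -1, -3, -3, -1, 3, 1, -1, -1, 1, -1],
  [-3, 3, -1, 3, -1, -3, 1, 1, -1, 1, 1, -1, 1, 1, -1, 1, -3, -1, -1, 1, -1, -1, 1, -1],
  [1, -1, -1, 3, -1, 1, 1, 1, 3, 1, 1, -1, 1, -3, 3, 1, 1, -1, 3, 1, -1, -1, 1, -1],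
  [-1, -3, 1, 1, 1, -1, -1, -1, 1, -1, -1, 1, -1, -1, 1, -1, -1, -3, -3, 3, -3, 1, -1, 1],
  [-1, 1, 1, 1, -3, -1, -5, -1, 1, -1, -1, 1, -1, -1, 1, -1, -1, 1, 1, -1, 1, -3, -1, 1],
  [1, -1, -1, -1, -1, -3, 1, 1, -1, 1, 1, 3, -3, -3, -1, 1, 1, 3, -1, 1, -1, -1, 1, -1],
  [1, -1, -1, -1, 3, 1, -3, 1, -1, 1, 1, -1, 1, 1, -1, 1, 1, -1, -1, 1, -1, -5, 1, -1],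
  [1, 3, -1, -1, -1, 1, 1, 1, 3, 1, 1, 3, 1, 1, -1, 1, 1, -1, -1, 1, -1, -1, -3, 3],
  [1, -1, -1, -1, -1, -3, 1, 1, -1, 1, -3, -1, 1, 1, 3, 1, 1, -1, -1, 1, 3, -1, -3, -1]]

/-- rows: the conjugating element -/
def rG : List (List ℤ) := [
  [1, -1, 1, 1, -1, 3, -1, 1, -1, 1, -1, 1, 3, 1, 1, -3, -3, 1, -1, -3, 1, 1, 1, 1],
  [-1, 1, -1, 3, 1, -3, 1, -1, 1, -1, 1, 3, 1, -1, -1, -1, -1, -1, -3, -1, -1, -1, -1, 3],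
  [-1, 1, -1, 3, 1, 1, -3, -1, -3, -1, 1, -1, 1, 3, -1, 3, -1, -1, 1, -1, -1, -1, -1, -1],
  [1, -1, 1, 1, -1, -1, -1, 1, -1, 1, 3, 1, -1, -3, 1, 1, 1, -3, 3, -3, 1, 1, 1, 1],
  [-1, -3, -1, 3, -3, 1, 1, -1, 1, -1, 1, -1, 1, -1, -1, -1, 3, 3, 1, -1, -1, -1, -1, -1],
  [-3, -1, 1, 1, 3, -1, -1, 1, -1, 1, -1, -3, 3, -3, 1, 1, 1, 1, -1, 1, 1, 1, 1, 1],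
  [1, -1, -3, 1, -1, -1, -1, 1, -1, 5, -1, 1, -1, 1, 1, 1, 1, 1, -1, 1, -3, 1, 1, 1],
  [-1, 1, -1, -1, -3, 1, -3, -1, 1, -1, 1, -1, 1, -1, -1, -1, -1, -1, 1, 3, -1, -1, 3, 3],
  [1, -1, 1, 1, 3, -1, -1, 1, -1, 1, -1, 1, -1, 1, -3, -3, 1, 1, 3, 1, 1, -3, 1, 1],
  [1, -1, 1, 1, -1, -1, -1, 1, 3, 1, -1, 1, 3, 1, -3, 1, 1, -3, -1, 1, 1, 1, 1, -3],
  [1, 3, 1, 1, -1, -1, -1, 1, 3, 1, -1, -3, -1, 1, 1, 1, 1, 1, -1, -3, 1, -3, 1, 1],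
  [-1, 1, 3, -1, 1, 1, 1, -1, 1, 3, 1, -1, 1, -1, -1, -1, -1, -1, 1, -1, -5, -1, -1, -1],
  [1, -1, 1, -3, -1, -1, -1, 1, -1, 1, 3, 1, 3, 1, 1, 1, 1, 1, -1, 1, 1, -3, -3, 1],
  [1, -1, 1, 1, -1, -1, -1, -3, -1, 1, -1, -3, -1, 1, 1, -3, 1, -3, -1, 1, 1, 1, -3, 1],
  [1, -1, 1, 1, 3, 3, -1, -3, 3, 1, 3, 1, -1, 1, 1, 1, 1, 1, -1, 1, 1, 1, 1, 1],
  [1, 3, 1, 1, -1, 3, -1, 1, -1, 1, -1, 1, -1, -3, -3, 1, 1, 1, -1, 1, 1, 1, -3, 1],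
  [-1, 1, -5, -1, 1, 1, 1, -1, 1, 3, 1, -1, 1, -1, -1, -1, -1, -1, 1, -1, 3, -1, -1, -1],
  [-1, 1, -1, -1, 1, 1, 1, 3, 1, -1, 1, -1, 1, 3, -1, -1, 3, -1, 1, -1, -1, 3, -1, 3],
  [1, 3, 1, 1, -1, -1, 3, -3, -1, 1, -1, 1, 3, 1, 1, 1, 1, 1, 3, 1, 1, 1, 1, 1],
  [3, 1, -1, 3, 1, 1, 1, 3, 1, -1, 1, -1, 1, -1, 3, -1, -1, -1, 1, 3, -1, -1, -1, -1],
  [3, 1, -1, -1, 1, 1, 1, -1, -3, -1, 1, -1, 1, -1, -1, -1, 3, -1, -3, -1, -1, -1, 3, -1],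
  [3, -3, -1, -1, 1, 1, 1, -1, 1, -1, -3, -1, 1, -1, -1, 3, -1, -1, 1, -1, -1, -1, -1, 3],
  [-1, 1, -1, -1, 1, 1, -3, -1, 1, -1, -3, 3, 1, -1, 3, -1, 3, -1, 1, -1, -1, -1, -1, -1],
  [3, 1, -1, -1, 1, -3, -3, -1, 1, -1, 1, -1, 1, -1, -1, -1, -1, 3, 1, -1, -1, 3, -1, -1]]

/-- columns -/
def cG : List (List ℤ) := [
  [1, -1, -1, 1, -1, -3, 1, -1, 1, 1, 1, -1, 1, 1, 1, 1, -1, -1, 1, 3, 3, 3, -1, 3],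
  [-1, 1, 1, -1, -3, -1, -1, 1, -1, -1, 3, 1, -1, -1, -1, 3, 1, 1, 3, 1, 1, -3, 1, 1],
  [1, -1, -1, 1, -1, 1, -3, -1, 1, 1, 1, 3, 1, 1, 1, 1, -5, -1, 1, -1, -1, -1, -1, -1],
  [1, 3, 3, 1, 3, 1, 1, -1, 1, 1, 1, -1, -3, 1, 1, 1, -1, -1, 1, 3, -1, -1, -1, -1],
  [-1, 1, 1, -1, -3, 3, -1, -3, 3, -1, -1, 1, -1, -1, 3, -1, 1, 1, -1, 1, 1, 1, 1, 1],
  [3, -3, 1, -1, 1, -1, -1, 1, -1, -1, -1, 1, -1, -1, 3, 3, 1, 1, -1, 1, 1, 1, 1, -3],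
  [-1, 1, -3, -1, 1, -1, -1, -3, -1, -1, -1, 1, -1, -1, -1, -1, 1, 1, 3, 1, 1, 1, -3, -3],
  [1, -1, -1, 1, -1, 1, 1, -1, 1, 1, 1, -1, 1, -3, -3, 1, -1, 3, -3, 3, -1, -1, -1, -1],
  [-1, 1, -3, -1, 1, -1, -1, 1, -1, 3, 3, 1, -1, -1, 3, -1, 1, 1, -1, 1, -3, 1, 1, 1],
  [1, -1, -1, 1, -1, 1, 5, -1, 1, 1, 1, 3, 1, 1, 1, 1, 3, -1, 1, -1, -1, -1, -1, -1],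
  [-1, 1, 1, 3, 1, -1, -1, 1, -1, -1, -1, 1, 3, -1, 3, -1, 1, 1, -1, 1, 1, -3, -3, 1],
  [1, 3, -1, 1, -1, -3, 1, -1, 1, 1, -3, -1, 1, -3, 1, 1, -1, -1, 1, -1, -1, -1, 3, -1],
  [3, 1, 1, -1, 1, 3, -1, 1, -1, 3, -1, 1, 3, -1, -1, -1, 1, 1, 3, 1, 1, 1, 1, 1],
  [1, -1, 3, -3, -1, -3, 1, -1, 1, 1, 1, -1, 1, 1, 1, -3, -1, 3, 1, -1, -1, -1, -1, -1],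
  [1, -1, -1, 1, -1, 1, 1, -1, -3, -3, 1, -1, 1, 1, 1, -3, -1, -1, 1, 3, -1, -1, 3, -1],
  [-3, -1, 3, 1, -1, 1, 1, -1, -3, 1, 1, -1, 1, -3, 1, 1, -1, -1, 1, -1, -1, 3, -1, -1],
  [-3, -1, -1, 1, 3, 1, 1, -1, 1, 1, 1, -1, 1, 1, 1, 1, -1, 3, 1, -1, 3, -1, 3, -1],
  [1, -1, -1, -3, 3, 1, 1, -1, 1, -3, 1, -1, 1, -3, 1, 1, -1, -1, 1, -1, -1, -1, -1, 3],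
  [-1, -3, 1, 3, 1, -1, -1, 1, 3, -1, -1, 1, -1, -1, -1, -1, 1, 1, 3, 1, -3, 1, 1, 1],
  [-3, -1, -1, -3, -1, 1, 1, 3, 1, 1, -3, -1, 1, 1, 1, 1, -1, -1, 1, 3, -1, -1, -1, -1],
  [1, -1, -1, 1, -1, 1, -3, -1, 1, 1, 1, -5, 1, 1, 1, 1, 3, -1, 1, -1, -1, -1, -1, -1],
  [1, -1, -1, 1, -1, 1, 1, -1, -3, 1, -3, -1, -3, 1, 1, 1, -1, 3, 1, -1, -1, -1, -1, 3],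
  [1, -1, -1, 1, -1, 1, 1, 3, 1, 1, 1, -1, -3, -3, 1, -3, -1, -1, 1, -1, 3, -1, -1, -1],
  [1, 3, -1, 1, -1, 1, 1, 3, 1, -3, 1, -1, 1, 1, 1, 1, -1, 3, 1, -1, -1, 3, -1, -1]]

theorem okA : Ok rA cA := CoOneType.CoFast.ok_of_okZ (by decide +kernel)

theorem okB : Ok rB cB := CoOneType.CoFast.ok_of_okZ (by decide +kernel)

theorem okD : Ok rD cD := CoOneType.CoFast.ok_of_okZ (by decide +kernel)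

theorem okH : Ok rH cH := CoOneType.CoFast.ok_of_okZ (by decide +kernel)

theorem okS : Ok rS cS := CoOneType.CoFast.ok_of_okZ (by decide +kernel)

theorem okR : Ok rR cR := CoOneType.CoFast.ok_of_okZ (by decide +kernel)

theorem okT : Ok rT cT := CoOneType.CoFast.ok_of_okZ (by decide +kernel)

theorem okY : Ok rY cY := CoOneType.CoFast.ok_of_okZ (by decide +kernel)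

theorem okG : Ok rG cG := CoOneType.CoFast.ok_of_okZ (by decide +kernel)

/-- The letters `a b d h s r t y g` and their inverses. -/
def M : ℕ → List (List ℤ)
  | 0 => rA
  | 1 => rB
  | 2 => rD
  | 3 => rH
  | 4 => rS
  | 5 => rR
  | 6 => rT
  | 7 => rY
  | 8 => rG
  | 9 => cA
  | 10 => cB
  | 11 => cD
  | 12 => cH
  | 13 => cS
  | 14 => cR
  | 15 => cT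
  | 16 => cY
  | _ => cG

/-- The elements of `Co₀`. -/
def e : ℕ → Co0
  | 0 => mk okA
  | 1 => mk okB
  | 2 => mk okD
  | 3 => mk okH
  | 4 => mk okS
  | 5 => mk okR
  | 6 => mk okT
  | 7 => mk okY
  | 8 => mk okG
  | 9 => (mk okA)⁻¹
  | 10 => (mk okB)⁻¹
  | 11 => (mk okD)⁻¹
  | 12 => (mk okH)⁻¹
  | 13 => (mk okS)⁻¹
  | 14 => (mk okR)⁻¹
  | 15 => (mk okT)⁻¹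
  | 16 => (mk okY)⁻¹
  | _ => (mk okG)⁻¹

theorem rep : ∀ i, Rep (e i) (M i)
  | 0 => rep_mk okA
  | 1 => rep_mk okB
  | 2 => rep_mk okD
  | 3 => rep_mk okH
  | 4 => rep_mk okS
  | 5 => rep_mk okR
  | 6 => rep_mk okT
  | 7 => rep_mk okY
  | 8 => rep_mk okG
  | 9 => rep_inv okA
  | 10 => rep_inv okB
  | 11 => rep_inv okD
  | 12 => rep_inv okH
  | 13 => rep_inv okS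
  | 14 => rep_inv okR
  | 15 => rep_inv okT
  | 16 => rep_inv okY
  | _ + 17 => rep_inv okG

end Cfsg.Agent.CpAutCoOneFive.Mat
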