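import Cfsg.Agent.CpAutCoOneFive.Mat

/-!
# Elements of order five of `Co₀`: relations (helper6)

Generated by a script; checked by the kernel.
-/

set_option autoImplicit false
set_option Elab.async false
set_option maxRecDepth 100000

namespace Cfsg.Agent.CpAutCoOneFive.Mat

open Cfsg Cfsg.Agent.SporadicStructure.Co0Matrix Cfsg.Agent.CoOneType.CoEval

/-- two words with the same value on `beta` -/
def eqB (w w' : List ℕ) : Bool := eqL (fold M w betaL) (fold M w' betaL)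

theorem rel_a5 : eqB [0, 0, 0, 0, 0]
    [] = true := by decide +kernel

theorem rel_b5 : eqB [1, 1, 1, 1, 1]
    [] = true := by decide +kernel

theorem rel_d5 : eqB [2, 2, 2, 2, 2]
    [] = true := by decide +kernel

theorem rel_c5 : eqB [0, 1, 9, 10, 0, 1, 9, 10, 0, 1, 9, 10, 0, 1, 9, 10, 0, 1, 9, 10]
    [] = true := by decide +kernel

theorem rel_ac : eqB [0, 0, 1, 9, 10]
    [0, 1, 9, 10, 0] = true := by decide +kernel

theorem rel_bc : eqB [1, 0, 1, 9, 10]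
    [0, 1, 9, 10, 1] = true := by decide +kernel

theorem rel_dc : eqB [2, 0, 1, 9, 10]
    [0, 1, 9, 10, 2] = true := by decide +kernel

theorem rel_da : eqB [2, 0]
    [0, 2] = true := by decide +kernel

theorem rel_bd : eqB [1, 2]
    [0, 0, 0, 0, 0, 1, 9, 10, 0, 1, 9, 10, 2, 1] = true := by decide +kernel

theorem rel_hd : eqB [3, 2]
    [0, 1, 9, 10, 2, 2, 3] = true := by decide +kernel

theorem rel_sa : eqB [4, 0]
    [0, 0, 0, 0, 1, 9, 10, 0, 1, 9, 10, 0, 1, 9, 10, 2, 2, 4] = true := by decide +kernel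

theorem rel_sc : eqB [4, 0, 1, 9, 10]
    [0, 0, 0, 0, 0, 1, 9, 10, 2, 2, 4] = true := by decide +kernel

theorem rel_sd : eqB [4, 2]
    [2, 4] = true := by decide +kernel

theorem rel_ra : eqB [5, 0]
    [0, 5] = true := by decide +kernel

theorem rel_rc : eqB [5, 0, 1, 9, 10]
    [0, 0, 0, 0, 0, 1, 9, 10, 2, 5] = true := by decide +kernel

theorem rel_rd : eqB [5, 2]
    [0, 0, 2, 2, 2, 2, 5] = true := by decide +kernel

theorem rel_ta : eqB [6, 0]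
    [0, 6] = true := by decide +kernel

theorem rel_tc : eqB [6, 0, 1, 9, 10]
    [0, 1, 9, 10, 0, 1, 9, 10, 6] = true := by decide +kernel

theorem rel_td : eqB [6, 2]
    [0, 0, 0, 0, 1, 9, 10, 2, 2, 2, 6] = true := by decide +kernel

theorem rel_y : eqB [8, 2]
    [7, 8] = true := by decide +kernel

theorem ne_c : neB M [0, 1, 9, 10] = true := by decide +kernel

/-- the sum of the squares of the entries -/
def nrm (l : List ℤ) : ℤ := (l.map fun a => a * a).sum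

/-- a lattice vector of norm `n` fixed by a word -/
def fixB (w : List ℕ) (l : List ℤ) (n : ℤ) : Bool :=
  eqL (fold M w l) l && leechB l && decide (nrm l = n) && Nat.beq l.length 24

/-- a vector of norm 64 fixed by `b` -/
def lB : List ℤ := [-6, 0, 0, 0, 0, -2, -2, 0, -2, 0, -2, 0, 0, 0, 0, -2, 2, 0, 0, 0, -2, 0, 0, 0]

theorem fix_b : fixB [1] lB 64 = true := by decide +kernel

/-- a vector of norm 32 fixed by `a` and `b` -/
def l32 : List ℤ := [0, 0, 2, 2, 2, 0, 2, -2, 0, 0, 0, 2, 0, 0, 0, 0, 0, 0, 0, 0, 2, -2, 0, 0]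

theorem fix32a : fixB [0] l32 32 = true := by decide +kernel

theorem fix32b : fixB [1] l32 32 = true := by decide +kernel

/-- a vector of norm 48 fixed by `a` and `b` -/
def l48 : List ℤ := [0, 0, 2, 2, 2, 0, -2, -2, 0, 0, 0, 2, 0, 0, 0, 0, 0, 0, -4, 0, 2, -2, 0, 0]

theorem fix48a : fixB [0] l48 48 = true := by decide +kernel

theorem fix48b : fixB [1] l48 48 = true := by decide +kernel

/-- vectors fixed by `c^k d`, `k = 1, 2, 4` -/
def lcd : ℕ → List ℤ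
  | 1 => [-3, 1, 1, -1, 1, -1, 1, -1, 1, -1, 1, -1, 1, -1, -1, 1, 1, -1, -1, -1, -1, 1, -1, 1]
  | 2 => [-2, -2, -2, 0, 0, 0, 0, 0, 0, 0, 2, 2, 0, 2, -2, 0, 0, 0, 0, 2, 0, 0, 0, 0]
  | _ => [-2, 0, 2, -2, 0, 0, 0, 0, -2, 0, 0, 0, -2, 2, 2, 0, 0, 0, 0, 0, 0, 0, 2, 0]

theorem fix_cd1 : fixB [0, 1, 9, 10, 2] (lcd 1) 32 = true := by decide +kernel

theorem fix_cd2 : fixB [0, 1, 9, 10, 0, 1, 9, 10, 2] (lcd 2) 32 = true := by decide +kernel

theorem fix_cd4 : fixB [0, 1, 9, 10, 0, 1, 9, 10, 0, 1, 9, 10, 0, 1, 9, 10, 2] (lcd 4) 32 = true := by decide +kernel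

/-- vectors fixed by `d^l b^j`, `1 ≤ l, j ≤ 4` -/
def ldb : ℕ → ℕ → List ℤ
  | 1, 1 => [-1, -1, 1, -1, -1, 1, -1, 1, -1, 3, -1, 1, -1, 1, -1, 1, 1, 1, 1, 1, 1, -1, -1, 1]
  | 1, 2 => [-1, -1, -1, -1, 1, -1, 1, 1, -1, 1, 3, -1, -1, 1, 1, -1, -1, 1, -1, -1, 1, -1, -1, -1]
  | 1, 3 => [-1, 1, -1, -1, 1, -1, 1, -1, 1, 1, -1, -1, -1, 1, 1, 1, -1, -1, -1, -3, 1, 1, 1, -1]
  | 1, 4 => [0, 0, 0, 0, -2, 0, 0, 0, 0, 0, 0, 0, -2, 2, 0, 0, -2, 2, 0, 2, 2, 0, 0, -2]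
  | 2, 1 => [-1, -1, 1, 1, -1, 1, 1, -1, -1, -1, 3, -1, -1, 1, -1, -1, -1, -1, -1, -1, -1, 1, 1, 1]
  | 2, 2 => [-1, -1, -1, 1, -1, -1, 1, 1, 1, -3, -1, -1, -1, -1, 1, 1, -1, 1, -1, 1, 1, -1, 1, 1]
  | 2, 3 => [-1, -1, -1, 1, -1, 1, 1, -1, 1, -1, -1, 1, 1, -1, -1, 1, -1, -3, -1, 1, -1, 1, 1, 1]
  | 2, 4 => [-2, -2, 0, 0, 0, -2, 0, 0, 0, 0, 0, 0, 0, 0, 2, -2, 0, 0, 0, 2, 2, 2, 0, 0]
  | 3, 1 => [-2, 2, 2, 0, 0, 0, 0, 0, 0, 0, 0, 0, 2, 0, 0, 0, 0, -2, 0, -2, -2, 0, 2, 0]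
  | 3, 2 => [-1, 1, 1, -1, -1, 1, 1, -1, 1, -1, 1, 1, -3, 1, -1, -1, -1, -1, -1, 1, -1, 1, -1, 1]
  | 3, 3 => [-1, -1, 1, -1, 1, 1, 1, -1, 1, 1, 1, -1, 1, -1, -1, -1, -1, 1, -1, -1, -1, 1, -3, 1]
  | 3, 4 => [-2, 2, 0, 0, 0, 2, 0, 0, 0, 2, 0, -2, 0, 2, 0, 0, 0, 0, 0, 0, 0, -2, 0, -2]
  | 4, 1 => [-1, -1, -1, 1, -1, -1, 1, -1, 3, -1, 1, -1, -1, 1, -1, -1, 1, 1, -1, -1, 1, 1, -1, -1]
  | 4, 2 => [0, -2, 0, 0, 2, 2, 0, 0, -2, -2, 0, 0, 0, 0, -2, 0, 0, 2, 0, 0, 0, 2, 0, 0]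
  | 4, 3 => [-1, 1, -1, -1, -1, 1, 1, -1, -1, -3, 1, 1, -1, 1, 1, -1, -1, 1, -1, 1, 1, 1, -1, -1]
  | _, _ => [-1, -3, -1, 1, -1, 1, 1, -1, 1, -1, 1, -1, 1, -1, -1, -1, 1, -1, -1, -1, 1, 1, 1, 1]

theorem fix_db : ∀ l ∈ [1, 2, 3, 4], ∀ j ∈ [1, 2, 3, 4],
    fixB (List.replicate l 2 ++ List.replicate j 1) (ldb l j) 32 = true := by decide +kernel

/-- sum of lists -/
def addL (s t : List ℤ) : List ℤ := List.zipWith (· + ·) s t

/-- the image of `l` under `1 + w + w² + w³ + w⁴` -/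
def sumW (w : List ℕ) (l : List ℤ) : List ℤ :=
  addL l (addL (fold M w l) (addL (fold M w (fold M w l)) (addL (fold M w (fold M w (fold M w l)))
    (fold M w (fold M w (fold M w (fold M w l)))))))

/-- `8 e_i` -/
def eL (i : ℕ) : List ℤ := (List.range 24).map fun j => if Nat.beq i j then 8 else 0

/-- `1 + d + d² + d³ + d⁴ = 0` -/
theorem free_d : (List.range 24).all (fun i => eqL (sumW [2] (eL i)) (List.replicate 24 0)) = true := by
  decide +kernel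

/-- a basis of the lattice fixed by `c` -/
def bs : List (List ℤ) := [
  [-1, -1, 1, 1, 1, 1, -3, -1, 1, -1, 1, 1, -1, -1, 1, 1, -1, -1, 1, -1, 1, -1, -1, -1],
  [1, 1, 1, 1, 1, 1, 1, 1, 1, 1, 1, 1, 1, 1, 1, 1, 1, 1, -3, 1, 1, 1, 1, 1],
  [0, 0, 0, 0, 0, -2, 0, -2, -2, 0, -2, 0, 0, 0, -2, -2, 0, 0, -2, 0, 0, -2, 0, 0],
  [0, 0, 2, 2, 2, 0, 2, -2, 0, 0, 0, 2, 0, 0, 0, 0, 0, 0, 0, 0, 2, -2, 0, 0]]

/-- coordinates -/
def co : List (List ℤ) := [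
  [-1, 1, 0, 0],
  [-1, 1, 0, 0],
  [1, 1, 0, 2],
  [1, 1, 0, 2],
  [1, 1, 0, 2],
  [1, 1, -2, 0],
  [-7, -3, -4, 6],
  [-1, 1, -2, -2],
  [1, 1, -2, 0],
  [-1, 1, 0, 0],
  [1, 1, -2, 0],
  [1, 1, 0, 2],
  [-1, 1, 0, 0],
  [-1, 1, 0, 0],
  [1, 1, -2, 0],
  [1, 1, -2, 0],
  [-1, 1, 0, 0],
  [-1, 1, 0, 0],
  [-3, -7, -6, 4],
  [-1, 1, 0, 0],
  [1, 1, 0, 2],
  [-1, 1, -2, -2],
  [-1, 1, 0, 0],
  [-1, 1, 0, 0]]

/-- linear combination -/
def lcomb : List ℤ → List (List ℤ) → List ℤ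
  | x :: s, l :: t => addL (l.map fun a => x * a) (lcomb s t)
  | _, _ => List.replicate 24 0

/-- one row of `rank_c` -/
def rowC (i : ℕ) : Bool := eqL (sumW [0, 1, 9, 10] (eL i)) (lcomb (co.getD i []) bs)

theorem rank_c0 : ([0, 1, 2] : List ℕ).all rowC = true := by decide +kernel

theorem rank_c1 : ([3, 4, 5] : List ℕ).all rowC = true := by decide +kernel

theorem rank_c2 : ([6, 7, 8] : List ℕ).all rowC = true := by decide +kernel

theorem rank_c3 : ([9, 10, 11] : List ℕ).all rowC = true := by decide +kernel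

theorem rank_c4 : ([12, 13, 14] : List ℕ).all rowC = true := by decide +kernel

theorem rank_c5 : ([15, 16, 17] : List ℕ).all rowC = true := by decide +kernel

theorem rank_c6 : ([18, 19, 20] : List ℕ).all rowC = true := by decide +kernel

theorem rank_c7 : ([21, 22, 23] : List ℕ).all rowC = true := by decide +kernel

theorem rank_c : (List.range 24).all (fun i => eqL (sumW [0, 1, 9, 10] (eL i)) (lcomb (co.getD i []) bs)) = true := by
  have h : List.range 24 = [0, 1, 2] ++ ([3, 4, 5] ++ ([6, 7, 8] ++ ([9, 10, 11] ++ ([12, 13, 14] ++ ([15, 16, 17] ++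
      ([18, 19, 20] ++ [21, 22, 23])))))) := rfl
  change (List.range 24).all rowC = true
  rw [h, List.all_append, List.all_append, List.all_append, List.all_append, List.all_append, List.all_append,
    List.all_append, rank_c0, rank_c1, rank_c2, rank_c3, rank_c4, rank_c5, rank_c6, rank_c7]
  rfl

theorem bs_ok : (bs.all fun l => leechB l && Nat.beq l.length 24) = true := by decide +kernel

theorem bs_length : bs.length = 4 := by decide +kernel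

end Cfsg.Agent.CpAutCoOneFive.Mat
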